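import Mathlib.Topology.Homotopy.Lifting
import Mathlib.Topology.Separation.Hausdorff
import Mathlib.Analysis.Convex.Contractible
import Mathlib.Analysis.Convex.PathConnected

/-!
# Closed maps with finite fibres: limits of lifted paths, continuity of lifted homotopies
-/

set_option autoImplicit false
set_option linter.style.haveILetI false

open Set Topology unitInterval Filter

namespace Groth.Agent.An.H72.BranchLift

variable {F Z : Type*} [TopologicalSpace F] [T2Space F] [TopologicalSpace Z]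

/-- Separation of a point of a finite fibre from the other points. -/
lemma sep {P : F → Z} (hP : IsClosedMap P) {z : Z} (hfin : (P ⁻¹' {z}).Finite) {y : F}
    (hy : P y = z) {N : Set F} (hN : N ∈ 𝓝 y) :
    ∃ O ∈ 𝓝 z, ∃ U V : Set F, IsOpen U ∧ IsOpen V ∧ Disjoint U V ∧ y ∈ U ∧ U ⊆ N ∧
      P ⁻¹' O ⊆ U ∪ V := by
  obtain ⟨W, hW, hdisj⟩ := hfin.t2_separation
  obtain ⟨N', hN'N, hN'o, hyN'⟩ := mem_nhds_iff.1 hN
  let U : Set F := W y ∩ N'
  let V : Set F := ⋃ y' ∈ (P ⁻¹' {z}) \ {y}, W y'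
  have hUo : IsOpen U := (hW y).2.inter hN'o
  have hVo : IsOpen V := isOpen_biUnion fun y' _ => (hW y').2
  have hyU : y ∈ U := ⟨(hW y).1, hyN'⟩
  have hfibre : P ⁻¹' {z} ⊆ U ∪ V := by
    intro y' hy'
    by_cases h : y' = y
    · rw [h]; exact Or.inl hyU
    · exact Or.inr (Set.mem_biUnion (⟨hy', h⟩ : y' ∈ (P ⁻¹' {z}) \ {y}) (hW y').1)
  have hdUV : Disjoint U V := by
    rw [Set.disjoint_left]
    rintro a ⟨ha, -⟩ haV
    obtain ⟨y', hy', hay'⟩ := Set.mem_iUnion₂.1 haV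
    have := hdisj (show y ∈ P ⁻¹' {z} from hy) hy'.1 (fun e => hy'.2 e.symm)
    exact Set.disjoint_left.1 this ha hay'
  have hnh : U ∪ V ∈ 𝓝ˢ (P ⁻¹' {z}) := (hUo.union hVo).mem_nhdsSet.2 hfibre
  obtain ⟨O, hO, hOU⟩ := isClosedMap_iff_comap_nhds_le.1 hP hnh
  exact ⟨O, hO, U, V, hUo, hVo, hdUV, hyU, inter_subset_right.trans hN'N, hOU⟩

omit [T2Space F] in
/-- A preconnected set contained in a disjoint union of two opens and meeting the first. -/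
lemma subset_of_preconnected {S U V : Set F} (hS : IsPreconnected S) (hU : IsOpen U)
    (hV : IsOpen V) (hd : Disjoint U V) (hSU : S ⊆ U ∪ V) {a : F} (ha : a ∈ S) (haU : a ∈ U) :
    S ⊆ U :=
  hS.subset_left_of_subset_union hU hV hd hSU ⟨a, ha, haU⟩

/-- Limits of lifts. `l` has a basis of preconnected sets on which `γ` is continuous. -/
lemma exists_lim {A : Type*} [TopologicalSpace A] {P : F → Z} (hP : IsClosedMap P) {z : Z}
    (hfin : (P ⁻¹' {z}).Finite) (l : Filter A) [l.NeBot] (γ : A → F)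
    (hl : ∀ s ∈ l, ∃ t ∈ l, t ⊆ s ∧ IsPreconnected (γ '' t))
    (hz : Tendsto (fun t => P (γ t)) l (𝓝 z)) :
    ∃ y, P y = z ∧ Tendsto γ l (𝓝 y) := by
  by_contra hne
  push Not at hne
  -- for every point of the fibre there is an open neighbourhood eventually avoided
  have key : ∀ y, P y = z → ∃ U, IsOpen U ∧ y ∈ U ∧ ∀ᶠ t in l, γ t ∉ U := by
    intro y hy
    have h1 := hne y hy
    rw [tendsto_def] at h1
    push Not at h1
    obtain ⟨N, hN, hNl⟩ := h1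
    obtain ⟨O, hO, U, V, hUo, hVo, hd, hyU, hUN, hOUV⟩ := sep hP hfin hy hN
    refine ⟨U, hUo, hyU, ?_⟩
    obtain ⟨t, ht, hts, htc⟩ := hl _ (hz hO)
    have hsub : γ '' t ⊆ U ∪ V := by
      rintro _ ⟨a, ha, rfl⟩
      exact hOUV (hts ha)
    have hnot : ∀ a ∈ t, γ a ∉ U := by
      intro a ha haU
      have h2 := subset_of_preconnected htc hUo hVo hd hsub ⟨a, ha, rfl⟩ haU
      exact hNl (mem_of_superset ht fun b hb => hUN (h2 ⟨b, hb, rfl⟩))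
    exact mem_of_superset ht hnot
  choose! U hUo hyU hUl using key
  have hnh : (⋃ y ∈ P ⁻¹' {z}, U y) ∈ 𝓝ˢ (P ⁻¹' {z}) :=
    (isOpen_biUnion fun y hy => hUo y hy).mem_nhdsSet.2
      fun y hy => Set.mem_biUnion hy (hyU y hy)
  obtain ⟨O, hO, hOU⟩ := isClosedMap_iff_comap_nhds_le.1 hP hnh
  have h1 : ∀ᶠ t in l, γ t ∈ ⋃ y ∈ P ⁻¹' {z}, U y := by
    filter_upwards [hz hO] with t ht
    exact hOU ht
  have h2 : ∀ᶠ t in l, ∀ y ∈ P ⁻¹' {z}, γ t ∉ U y :=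
    (hfin.eventually_all).2 fun y hy => hUl y hy
  obtain ⟨t, ht1, ht2⟩ := (h1.and h2).exists
  obtain ⟨y, hy, hyt⟩ := Set.mem_iUnion₂.1 ht1
  exact ht2 y hy hyt

/-- Continuity of a lift at the points where the covering argument does not apply. -/
lemma continuousAt_lift {A : Type*} [TopologicalSpace A] {P : F → Z} (hP : IsClosedMap P)
    (H : A × I → F) (hPH : Continuous fun a => P (H a)) (hH : ∀ a, Continuous fun t => H (a, t))
    (a₀ : A) (t₀ : I) (hfin : (P ⁻¹' {P (H (a₀, t₀))}).Finite)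
    (hloc : ∀ O ∈ 𝓝 (P (H (a₀, t₀))), ∃ J : Set I, IsCompact J ∧ IsPreconnected J ∧ J ∈ 𝓝 t₀ ∧
      (∀ t ∈ J, P (H (a₀, t)) ∈ O) ∧ ∃ t₁ ∈ J, ContinuousAt (fun a => H (a, t₁)) a₀) :
    ContinuousAt H (a₀, t₀) := by
  intro N hN
  obtain ⟨O, hO, U, V, hUo, hVo, hd, hyU, hUN, hOUV⟩ := sep hP hfin rfl hN
  obtain ⟨O', hO'O, hO'o, hzO'⟩ := mem_nhds_iff.1 hO
  obtain ⟨J, hJc, hJp, hJn, hJO, t₁, ht₁, hcont⟩ := hloc O' (hO'o.mem_nhds hzO')
  have hopen : IsOpen {p : A × I | P (H p) ∈ O'} := hO'o.preimage hPH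
  have hsub : ({a₀} : Set A) ×ˢ J ⊆ {p : A × I | P (H p) ∈ O'} := by
    rintro ⟨a, t⟩ ⟨ha, ht⟩
    rw [Set.mem_singleton_iff] at ha
    subst ha
    exact hJO t ht
  obtain ⟨M, T, hMo, hTo, haM, hJT, hMT⟩ := generalized_tube_lemma isCompact_singleton hJc hopen hsub
  have haM' : a₀ ∈ M := haM rfl
  have ht₀J : t₀ ∈ J := mem_of_mem_nhds hJn
  have hpre : ∀ a, IsPreconnected ((fun t => H (a, t)) '' J) := fun a =>
    hJp.image _ (hH a).continuousOn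
  have hin : ∀ a ∈ M, (fun t => H (a, t)) '' J ⊆ U ∪ V := by
    rintro a ha _ ⟨t, ht, rfl⟩
    exact hOUV (hO'O (hMT ⟨ha, hJT ht⟩))
  have h0 : (fun t => H (a₀, t)) '' J ⊆ U :=
    subset_of_preconnected (hpre a₀) hUo hVo hd (hin a₀ haM') ⟨t₀, ht₀J, rfl⟩ hyU
  have h1 : ∀ᶠ a in 𝓝 a₀, H (a, t₁) ∈ U := hcont (hUo.mem_nhds (h0 ⟨t₁, ht₁, rfl⟩))
  have h2 : ∀ᶠ a in 𝓝 a₀, a ∈ M := hMo.mem_nhds haM'
  have h3 : ∀ᶠ a in 𝓝 a₀, (fun t => H (a, t)) '' J ⊆ U := by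
    filter_upwards [h1, h2] with a ha1 ha2
    exact subset_of_preconnected (hpre a) hUo hVo hd (hin a ha2) ⟨t₁, ht₁, rfl⟩ ha1
  rw [nhds_prod_eq]
  have h4 : ∀ᶠ p : A × I in 𝓝 a₀ ×ˢ 𝓝 t₀, (fun t => H (p.1, t)) '' J ⊆ U ∧ p.2 ∈ J :=
    h3.prod_mk (Filter.eventually_of_mem hJn fun _ h => h)
  exact h4.mono fun p hp => hUN (hp.1 ⟨p.2, hp.2, rfl⟩)

end Groth.Agent.An.H72.BranchLift
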