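import Mathlib.Topology.Homotopy.Lifting
import Mathlib.Topology.Homotopy.HomotopyGroup

/-!
# Trivial homotopy groups: basic transfer lemmas
-/

set_option autoImplicit false
set_option linter.dupNamespace false
set_option linter.style.haveILetI false

open Set Topology unitInterval

namespace Groth.Agent.An.H72.HTriv

variable {X Y : Type*} [TopologicalSpace X] [TopologicalSpace Y]

lemma cont_mul {A : Type*} [TopologicalSpace A] {f g : A → I} (hf : Continuous f)
    (hg : Continuous g) : Continuous fun a => f a * g a :=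
  ((continuous_subtype_val.comp hf).mul (continuous_subtype_val.comp hg)).subtype_mk _

/-- Every map of the `n`-cube into `X` which is constant `x` on the boundary is homotopic to the
constant map relative to the boundary. -/
def HTriv (n : ℕ) (X : Type*) [TopologicalSpace X] (x : X) : Prop :=
  ∀ f : C(Fin n → I, X), (∀ y ∈ Cube.boundary (Fin n), f y = x) →
    f.HomotopicRel (ContinuousMap.const _ x) (Cube.boundary (Fin n))

lemma htriv_iff (n : ℕ) (x : X) : HTriv n X x ↔ Subsingleton (HomotopyGroup (Fin n) X x) := by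
  constructor
  · intro h
    refine ⟨fun a b => ?_⟩
    induction a using Quotient.inductionOn with
    | _ a =>
    induction b using Quotient.inductionOn with
    | _ b =>
    refine Quotient.sound ?_
    exact (h a.1 a.2).trans (h b.1 b.2).symm
  · intro h f hf
    have := Quotient.exact (h.elim (⟦⟨f, hf⟩⟧ : HomotopyGroup (Fin n) X x)
      (⟦GenLoop.const⟧ : HomotopyGroup (Fin n) X x))
    exact this

lemma HTriv.of_homeo {n : ℕ} {x : X} (h : HTriv n X x) (e : X ≃ₜ Y) : HTriv n Y (e x) := by
  intro f hf
  have h1 := h ((e.symm : C(Y, X)).comp f) (fun y hy => by simp [hf y hy])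
  obtain ⟨H⟩ := h1.comp_continuousMap (e : C(X, Y))
  refine ⟨H.cast ?_ ?_⟩
  · ext y; simp
  · ext y; simp

/-- Transfer through a homotopy retraction fixing the base point. -/
lemma HTriv.of_retract {n : ℕ} {x : X} {y : Y} (h : HTriv n Y y) (g : C(X, Y)) (i : C(Y, X))
    (hgx : g x = y) (hH : (ContinuousMap.id X).HomotopicRel (i.comp g) {x}) : HTriv n X x := by
  intro f hf
  have hiy : i y = x := by
    have := hH.fst_eq_snd (Set.mem_singleton x)
    simp only [ContinuousMap.id_apply, ContinuousMap.comp_apply] at this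
    rw [← hgx, ← this]
  obtain ⟨H⟩ := hH
  have h1 : f.HomotopicRel ((i.comp g).comp f) (Cube.boundary (Fin n)) := by
    refine ⟨⟨⟨⟨fun p => H (p.1, f p.2), by fun_prop⟩, ?_, ?_⟩, ?_⟩⟩
    · intro y
      simp
    · intro y
      simp
    · intro t y hy
      have e1 := H.eq_fst t (Set.mem_singleton x)
      change H (t, f y) = f y
      rw [hf y hy, e1]
      rfl
  have h2 := h (g.comp f) (fun y hy => by simp [hf y hy, hgx])
  obtain ⟨H2⟩ := h2.comp_continuousMap i
  refine h1.trans ⟨H2.cast ?_ ?_⟩
  · rfl
  · ext y; simp [hiy]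

/-- The boundary of a cube of dimension at least two is preconnected. -/
theorem isPreconnected_boundary {N : Type*} [Nontrivial N] :
    IsPreconnected (Cube.boundary N) := by
  classical
  refine isPreconnected_of_forall (fun _ => 0) fun y hy => ?_
  obtain ⟨i, hi⟩ := hy
  obtain ⟨j, hj⟩ := exists_ne i
  let c1 : C(I, N → I) := ⟨fun t => Function.update y j (t * y j),
    continuous_const.update j (cont_mul continuous_id continuous_const)⟩
  let y' : N → I := Function.update y j 0
  let c2 : C(I, N → I) := ⟨fun t k => t * y' k,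
    continuous_pi fun k => cont_mul continuous_id continuous_const⟩
  have h1 : c1 0 = y' := by simp [c1, y']
  have h2 : c1 1 = y := by simp [c1]
  have h3 : c2 1 = y' := by ext k; simp [c2]
  have h4 : c2 0 = fun _ => 0 := by ext k; simp [c2]
  refine ⟨Set.range c1 ∪ Set.range c2, ?_, ?_, ?_, ?_⟩
  · rintro z (⟨t, rfl⟩ | ⟨t, rfl⟩)
    · refine ⟨i, ?_⟩
      simp only [c1, ContinuousMap.coe_mk]
      rw [Function.update_of_ne hj.symm]
      exact hi
    · refine ⟨j, Or.inl ?_⟩
      simp [c2, y']
  · exact Or.inr ⟨0, h4⟩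
  · exact Or.inl ⟨1, h2⟩
  · refine IsPreconnected.union y' ⟨0, h1⟩ ⟨1, h3⟩ ?_ ?_
    · exact isPreconnected_range c1.continuous
    · exact isPreconnected_range c2.continuous

/-- Lifting maps of cubes through coverings. -/
theorem exists_lift_cube {N : Type*} {E : Type*} [TopologicalSpace E] {p : E → X}
    (cov : IsCoveringMap p) (f : C(N → I, X)) (e : E) (he : p e = f 0) :
    ∃ g : C(N → I, E), (∀ y, p (g y) = f y) ∧ g 0 = e := by
  let H : C(I × (N → I), X) := f.comp ⟨fun ty i => ty.1 * ty.2 i,
    continuous_pi fun i => cont_mul continuous_fst ((continuous_apply i).comp continuous_snd)⟩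
  have H_0 : ∀ a, H (0, a) = p (ContinuousMap.const (N → I) e a) := by
    intro a
    simp only [H, ContinuousMap.comp_apply, ContinuousMap.coe_mk, ContinuousMap.const_apply, he]
    congr 1
    ext i
    simp
  let L := cov.liftHomotopy H (ContinuousMap.const (N → I) e) H_0
  have hL : ∀ ty, p (L ty) = H ty := fun ty => congr_fun (cov.liftHomotopy_lifts H _ H_0) ty
  refine ⟨⟨fun y => L (1, y), by fun_prop⟩, fun y => ?_, ?_⟩
  · change p (L (1, y)) = _
    rw [hL]
    simp only [H, ContinuousMap.comp_apply, ContinuousMap.coe_mk]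
    congr 1
    ext i
    simp
  · change L (1, 0) = e
    have h1 : L (0, 0) = e := cov.liftHomotopy_zero H _ H_0 0
    rw [← h1]
    refine cov.const_of_comp (g := fun t : I => L (t, 0)) (by fun_prop) (fun a a' => ?_) 1 0
    simp only [hL]
    simp only [H, ContinuousMap.comp_apply, ContinuousMap.coe_mk]
    congr 1
    ext i
    simp

/-- Homotopy groups of degree at least two of a space and of a covering. -/
theorem HTriv.of_covering {n : ℕ} (hn : 2 ≤ n) {E : Type*} [TopologicalSpace E] {p : E → X}
    (cov : IsCoveringMap p) {e : E} (h : HTriv n E e) : HTriv n X (p e) := by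
  intro f hf
  haveI : Nontrivial (Fin n) := Fin.nontrivial_iff_two_le.2 hn
  have h0 : (0 : Fin n → I) ∈ Cube.boundary (Fin n) := ⟨⟨0, by omega⟩, Or.inl rfl⟩
  obtain ⟨g, hg, hg0⟩ := exists_lift_cube cov f e (hf 0 h0).symm
  have hgb : ∀ y ∈ Cube.boundary (Fin n), g y = e := by
    intro y hy
    rw [← hg0]
    exact cov.constOn_of_comp isPreconnected_boundary g.continuous.continuousOn
      (fun a ha a' ha' => by rw [hg, hg, hf a ha, hf a' ha']) hy h0
  obtain ⟨H⟩ := (h g hgb).comp_continuousMap ⟨p, cov.continuous⟩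
  refine ⟨H.cast ?_ ?_⟩
  · ext y; simp [hg]
  · ext y; simp

end Groth.Agent.An.H72.HTriv
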