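import Groth.Agent.An.H72.Lift
import Groth.Agent.An.H72.HTriv

/-!
# Higher homotopy groups of the total space of a locally trivial map
-/

set_option autoImplicit false
set_option linter.style.haveILetI false

open Set Topology unitInterval Filter

namespace Groth.Agent.An.H72.FibN

open Lift HTriv

variable {E B : Type} [TopologicalSpace E] [TopologicalSpace B]

/-- `π_n(B) = 0` and `π_n(F) = 0` imply `π_n(E) = 0`. -/
theorem htriv {p : E → B} (hpc : Continuous p) (hp : LocTriv p) (n : ℕ) (x : E)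
    (hB : HTriv n B (p x)) (hF : HTriv n ↥(p ⁻¹' {p x}) ⟨x, rfl⟩) : HTriv n E x := by
  intro f hf
  obtain ⟨G⟩ := hB ((⟨p, hpc⟩ : C(E, B)).comp f) (fun y hy => by simp [hf y hy])
  obtain ⟨H, h1, h2, h3⟩ := hp.exists_lift_rel (Cube.boundary (Fin n)) f
    ⟨fun z => G z, G.continuous⟩ (fun k => by simp)
    (fun k hk t => by simpa using G.eq_fst t hk)
  let f₁ : C(Fin n → I, ↥(p ⁻¹' {p x})) := ⟨fun k => ⟨H (1, k), by
    rw [Set.mem_preimage, h1]; simp⟩, by fun_prop⟩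
  have hf₁ : ∀ y ∈ Cube.boundary (Fin n), f₁ y = ⟨x, rfl⟩ := fun y hy =>
    Subtype.ext (by change H (1, y) = x; rw [h3 y hy 1, hf y hy])
  obtain ⟨H₁⟩ := (hF f₁ hf₁).comp_continuousMap ⟨Subtype.val, continuous_subtype_val⟩
  have e1 : f.HomotopicRel ((⟨Subtype.val, continuous_subtype_val⟩ : C(↥(p ⁻¹' {p x}), E)).comp f₁)
      (Cube.boundary (Fin n)) := by
    refine ⟨⟨⟨⟨fun z => H z, by fun_prop⟩, ?_, ?_⟩, ?_⟩⟩
    · intro k; exact h2 k
    · intro k; rfl
    · intro t y hy; exact h3 y hy t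
  refine e1.trans ⟨H₁.cast ?_ ?_⟩
  · rfl
  · ext y; rfl

end Groth.Agent.An.H72.FibN
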