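import Groth.Agent.An.H72.GraphCov
import Mathlib.GroupTheory.FreeGroup.Reduce
import Mathlib.Tactic.Linarith

/-!
# The free covering of a bipartite graph is a forest
-/

set_option autoImplicit false

open Set Topology Filter

namespace Groth.Agent.An.H72.FreeForest

open Groth.Agent.An.H72.GraphReal Groth.Agent.An.H72.GraphCov

universe u

/-- The bipartite graph (barycentric subdivision of a graph): vertices `V`, edges `E`, and
`ε e s` is the end of `e` on the side `s`. -/
def bg {V E : Type u} (ε : E → Bool → V) : SimpleGraph (V ⊕ E) where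
  Adj x y := match x, y with
    | Sum.inl v, Sum.inr e => ∃ s, ε e s = v
    | Sum.inr e, Sum.inl v => ∃ s, ε e s = v
    | _, _ => False
  symm := ⟨fun x y h => by
    rcases x with x | x <;> rcases y with y | y <;> simp_all⟩
  loopless := ⟨fun x h => by
    rcases x with x | x <;> simp_all⟩

variable {V E : Type u} {ε : E → Bool → V}

@[simp] lemma bg_lr (v : V) (e : E) : (bg ε).Adj (Sum.inl v) (Sum.inr e) ↔ ∃ s, ε e s = v := Iff.rfl
@[simp] lemma bg_rl (v : V) (e : E) : (bg ε).Adj (Sum.inr e) (Sum.inl v) ↔ ∃ s, ε e s = v := Iff.rfl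
@[simp] lemma bg_ll (v w : V) : ¬ (bg ε).Adj (Sum.inl v) (Sum.inl w) := fun h => h
@[simp] lemma bg_rr (v w : E) : ¬ (bg ε).Adj (Sum.inr v) (Sum.inr w) := fun h => h

/-- Ends of the edges of the free covering. -/
def ε' (ε : E → Bool → V) : FreeGroup E × E → Bool → FreeGroup E × V
  | (b, e), false => (b, ε e false)
  | (b, e), true => (FreeGroup.of e * b, ε e true)

lemma ε'_false (b : FreeGroup E) (e : E) : ε' ε (b, e) false = (b, ε e false) := rfl
lemma ε'_true (b : FreeGroup E) (e : E) : ε' ε (b, e) true = (FreeGroup.of e * b, ε e true) := rfl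

lemma ε'_snd (p : FreeGroup E × E) (s : Bool) : (ε' ε p s).2 = ε p.2 s := by
  obtain ⟨b, e⟩ := p
  cases s <;> rfl

/-- The vertices of the free covering. -/
abbrev WC (V E : Type u) := (FreeGroup E × V) ⊕ (FreeGroup E × E)

/-- The projection. -/
def φ : WC V E → V ⊕ E := Sum.map Prod.snd Prod.snd

@[simp] lemma φ_inl (p : FreeGroup E × V) : φ (Sum.inl p : WC V E) = Sum.inl p.2 := rfl
@[simp] lemma φ_inr (p : FreeGroup E × E) : φ (Sum.inr p : WC V E) = Sum.inr p.2 := rfl

/-- Right translation action. -/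
def sm (a : FreeGroup E) : WC V E → WC V E :=
  Sum.map (fun p => (p.1 * a⁻¹, p.2)) (fun p => (p.1 * a⁻¹, p.2))

/-- Right translation action. -/
@[reducible] def actW (V E : Type u) : MulAction (FreeGroup E) (WC V E) where
  smul a w := sm a w
  one_smul w := by
    change sm 1 w = w
    rcases w with w | w <;> simp [sm]
  mul_smul a b w := by
    change sm (a * b) w = sm a (sm b w)
    rcases w with w | w <;> simp [sm, mul_assoc]

lemma smul_inl (a : FreeGroup E) (p : FreeGroup E × V) :
    letI := actW V E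
    a • (Sum.inl p : WC V E) = Sum.inl (p.1 * a⁻¹, p.2) := rfl

lemma smul_inr (a : FreeGroup E) (p : FreeGroup E × E) :
    letI := actW V E
    a • (Sum.inr p : WC V E) = Sum.inr (p.1 * a⁻¹, p.2) := rfl

lemma ε'_smul (a b : FreeGroup E) (e : E) (s : Bool) :
    ε' ε (b * a⁻¹, e) s = ((ε' ε (b, e) s).1 * a⁻¹, (ε' ε (b, e) s).2) := by
  cases s <;> simp [ε', mul_assoc]

theorem isCov [Finite E] (hε : ∀ e, ε e false ≠ ε e true) :
    letI := actW V E
    IsCov (bg (ε' ε)) (bg ε) (φ : WC V E → V ⊕ E) (FreeGroup E) := by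
  letI := actW V E
  have hss : ∀ e s s', ε e s = ε e s' → s = s' := by
    intro e s s' h
    cases s <;> cases s'
    · rfl
    · exact absurd h (hε e)
    · exact absurd h.symm (hε e)
    · rfl
  have hεinj : ∀ (b₁ b₂ : FreeGroup E) (e : E) (s : Bool), ε' ε (b₁, e) s = ε' ε (b₂, e) s →
      b₁ = b₂ := by
    intro b₁ b₂ e s h
    cases s
    · exact (Prod.ext_iff.1 h).1
    · exact mul_left_cancel (Prod.ext_iff.1 h).1
  refine ⟨?_, ?_, ?_, ?_, ?_, ?_, ?_, ?_, ?_⟩
  · rintro (u | u) (w | w) h
    · exact h.elim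
    · obtain ⟨s, hs⟩ := h
      exact ⟨s, by rw [← hs, ε'_snd]⟩
    · obtain ⟨s, hs⟩ := h
      exact ⟨s, by rw [← hs, ε'_snd]⟩
    · exact h.elim
  · rintro (⟨a, v⟩ | ⟨a, e⟩) (w | w) h
    · exact h.elim
    · obtain ⟨s, hs⟩ := h
      cases s
      · exact ⟨Sum.inr (a, w), ⟨false, by rw [ε'_false, hs]⟩, rfl⟩
      · exact ⟨Sum.inr ((FreeGroup.of w)⁻¹ * a, w), ⟨true, by rw [ε'_true, hs, mul_inv_cancel_left]⟩,
          rfl⟩
    · obtain ⟨s, hs⟩ := h
      refine ⟨Sum.inl (ε' ε (a, e) s), ⟨s, rfl⟩, ?_⟩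
      rw [φ_inl, ε'_snd]
      exact congrArg _ hs
    · exact h.elim
  · rintro (⟨a, v⟩ | ⟨a, e⟩) (⟨b₁, w₁⟩ | ⟨b₁, w₁⟩) (⟨b₂, w₂⟩ | ⟨b₂, w₂⟩) h₁ h₂ h
    · exact h₁.elim
    · exact h₁.elim
    · exact h₂.elim
    · obtain ⟨s₁, hs₁⟩ := h₁
      obtain ⟨s₂, hs₂⟩ := h₂
      have hw : w₁ = w₂ := Sum.inr_injective h
      subst hw
      have h1 : ε w₁ s₁ = ε w₁ s₂ := by
        have e1 := congrArg Prod.snd hs₁
        have e2 := congrArg Prod.snd hs₂
        rw [ε'_snd] at e1 e2
        exact e1.trans e2.symm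
      have hs := hss _ _ _ h1
      subst hs
      rw [hεinj b₁ b₂ w₁ s₁ (hs₁.trans hs₂.symm)]
    · obtain ⟨s₁, hs₁⟩ := h₁
      obtain ⟨s₂, hs₂⟩ := h₂
      have hw : w₁ = w₂ := Sum.inl_injective h
      subst hw
      have h1 : ε e s₁ = ε e s₂ := by
        have e1 := congrArg Prod.snd hs₁
        have e2 := congrArg Prod.snd hs₂
        rw [ε'_snd] at e1 e2
        exact e1.trans e2.symm
      have hs := hss _ _ _ h1
      subst hs
      rw [← hs₁, ← hs₂]
    · exact h₂.elim
    · exact h₁.elim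
    · exact h₁.elim
  · rintro (⟨a, v⟩ | ⟨a, e⟩)
    · refine ((Set.finite_range fun p : E × Bool =>
        (Sum.inr (cond p.2 ((FreeGroup.of p.1)⁻¹ * a) a, p.1) : WC V E))).subset ?_
      rintro (w | ⟨b, e⟩) h
      · exact h.elim
      · obtain ⟨s, hs⟩ := h
        refine ⟨(e, s), ?_⟩
        cases s
        · rw [ε'_false] at hs
          have := (Prod.ext_iff.1 hs).1
          simp only at this
          simp [this]
        · rw [ε'_true] at hs
          have := (Prod.ext_iff.1 hs).1
          simp only at this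
          simp [← this]
    · refine (Set.finite_range fun s : Bool => (Sum.inl (ε' ε (a, e) s) : WC V E)).subset ?_
      rintro (w | w) h
      · obtain ⟨s, hs⟩ := h
        exact ⟨s, congrArg Sum.inl hs⟩
      · exact h.elim
  · rintro a (⟨b, u⟩ | ⟨b, u⟩) (⟨c, w⟩ | ⟨c, w⟩) h
    · exact h.elim
    · obtain ⟨s, hs⟩ := h
      exact ⟨s, by rw [ε'_smul, hs]⟩
    · obtain ⟨s, hs⟩ := h
      exact ⟨s, by rw [ε'_smul, hs]⟩
    · exact h.elim
  · rintro a (⟨b, u⟩ | ⟨b, u⟩) <;> rfl
  · rintro (⟨b, u⟩ | ⟨b, u⟩) (⟨c, w⟩ | ⟨c, w⟩) h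
    · have hw : u = w := Sum.inl_injective h
      subst hw
      exact ⟨c⁻¹ * b, by rw [smul_inl]; simp⟩
    · cases h
    · cases h
    · have hw : u = w := Sum.inr_injective h
      subst hw
      exact ⟨c⁻¹ * b, by rw [smul_inr]; simp⟩
  · rintro a (⟨b, u⟩ | ⟨b, u⟩) h
    · rw [smul_inl] at h
      have := (Prod.ext_iff.1 (Sum.inl_injective h)).1
      simpa using this
    · rw [smul_inr] at h
      have := (Prod.ext_iff.1 (Sum.inr_injective h)).1
      simpa using this
  · rintro (v | e)
    · exact ⟨Sum.inl (1, v), rfl⟩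
    · exact ⟨Sum.inr (1, e), rfl⟩

/-! ### Word length -/

section Words

variable [DecidableEq E]

/-- Multiplying by the letter `x` on the left shortens `b`. -/
def Dn (x : E × Bool) (b : FreeGroup E) : Prop := b.toWord.head? = some (x.1, !x.2)

lemma dn_unique {x y : E × Bool} {b : FreeGroup E} (hx : Dn x b) (hy : Dn y b) : x = y := by
  unfold Dn at hx hy
  rw [hx] at hy
  have h := Option.some_injective _ hy
  obtain ⟨h1, h2⟩ := Prod.ext_iff.1 h
  refine Prod.ext h1 ?_
  simpa using h2

lemma toWord_mk_mul (x : E × Bool) (b : FreeGroup E) :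
    (FreeGroup.mk [x] * b).toWord = FreeGroup.reduce (x :: b.toWord) := by
  rw [FreeGroup.toWord_mul, FreeGroup.toWord_mk, FreeGroup.reduce_singleton]
  rfl

lemma norm_of_dn {x : E × Bool} {b : FreeGroup E} (h : Dn x b) :
    (FreeGroup.mk [x] * b).norm + 1 = b.norm := by
  unfold Dn at h
  unfold FreeGroup.norm
  rw [toWord_mk_mul, FreeGroup.reduce.cons, FreeGroup.reduce_toWord]
  cases hb : b.toWord with
  | nil => rw [hb] at h; simp at h
  | cons hd tl =>
    rw [hb] at h
    simp only [List.head?_cons, Option.some.injEq] at h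
    subst h
    simp

lemma toWord_of_not_dn {x : E × Bool} {b : FreeGroup E} (h : ¬ Dn x b) :
    (FreeGroup.mk [x] * b).toWord = x :: b.toWord := by
  unfold Dn at h
  rw [toWord_mk_mul, FreeGroup.reduce.cons, FreeGroup.reduce_toWord]
  cases hb : b.toWord with
  | nil => simp
  | cons hd tl =>
    rw [hb] at h
    simp only [List.head?_cons, Option.some.injEq] at h
    simp only
    rw [if_neg]
    rintro ⟨h1, h2⟩
    apply h
    refine Prod.ext h1.symm ?_
    rw [h2]
    simp

lemma norm_of_not_dn {x : E × Bool} {b : FreeGroup E} (h : ¬ Dn x b) :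
    (FreeGroup.mk [x] * b).norm = b.norm + 1 := by
  unfold FreeGroup.norm
  rw [toWord_of_not_dn h]
  simp

lemma dn_of_not_dn {x : E × Bool} {b : FreeGroup E} (h : ¬ Dn x b) :
    Dn (x.1, !x.2) (FreeGroup.mk [x] * b) := by
  unfold Dn
  rw [toWord_of_not_dn h]
  simp

end Words

open Classical in
/-- The parent function of the forest. -/
noncomputable def par (ε : E → Bool → V) : WC V E → WC V E
  | Sum.inl (b, v) =>
    if h : ∃ e, ε e false = v ∧ Dn (e, true) b then Sum.inr (b, h.choose)
    else if h : ∃ e, ε e true = v ∧ Dn (e, false) b then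
      Sum.inr ((FreeGroup.of h.choose)⁻¹ * b, h.choose)
    else Sum.inl (b, v)
  | Sum.inr (b, e) =>
    if Dn (e, true) b then Sum.inl (FreeGroup.of e * b, ε e true) else Sum.inl (b, ε e false)

open Classical in
/-- The depth function of the forest. -/
noncomputable def dep : WC V E → ℕ
  | Sum.inl (b, _) => 2 * b.norm
  | Sum.inr (b, e) => 2 * min b.norm (FreeGroup.of e * b).norm + 1

open Classical in
lemma forest_aux (b : FreeGroup E) (e : E) (s : Bool) :
    (par ε (Sum.inr (b, e)) = Sum.inl (ε' ε (b, e) s) ∧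
      dep (Sum.inl (ε' ε (b, e) s) : WC V E) < dep (Sum.inr (b, e) : WC V E)) ∨
    (par ε (Sum.inl (ε' ε (b, e) s)) = Sum.inr (b, e) ∧
      dep (Sum.inr (b, e) : WC V E) < dep (Sum.inl (ε' ε (b, e) s) : WC V E)) := by
  have hof : FreeGroup.of e * b = FreeGroup.mk [(e, true)] * b := rfl
  cases s
  · rw [ε'_false]
    by_cases h : Dn (e, true) b
    · right
      have hex : ∃ e', ε e' false = ε e false ∧ Dn (e', true) b := ⟨e, rfl, h⟩
      have hc : hex.choose = e := (Prod.ext_iff.1 (dn_unique hex.choose_spec.2 h)).1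
      constructor
      · simp only [par]
        rw [dif_pos hex, hc]
      · simp only [dep]
        have := norm_of_dn h
        rw [hof]
        omega
    · left
      constructor
      · simp only [par]
        rw [if_neg h]
      · simp only [dep]
        have := norm_of_not_dn h
        rw [hof]
        omega
  · rw [ε'_true]
    by_cases h : Dn (e, true) b
    · left
      constructor
      · simp only [par]
        rw [if_pos h]
      · simp only [dep]
        have := norm_of_dn h
        rw [hof]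
        omega
    · right
      have h' : Dn (e, false) (FreeGroup.of e * b) := dn_of_not_dn h
      have hnex : ¬ ∃ e', ε e' false = ε e true ∧ Dn (e', true) (FreeGroup.of e * b) := by
        rintro ⟨e', -, he'⟩
        have := (Prod.ext_iff.1 (dn_unique he' h')).2
        simp at this
      have hex : ∃ e', ε e' true = ε e true ∧ Dn (e', false) (FreeGroup.of e * b) := ⟨e, rfl, h'⟩
      have hc : hex.choose = e := (Prod.ext_iff.1 (dn_unique hex.choose_spec.2 h')).1
      constructor
      · simp only [par]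
        rw [dif_neg hnex, dif_pos hex, hc, inv_mul_cancel_left]
      · simp only [dep]
        have := norm_of_not_dn h
        rw [hof]
        omega

theorem forest (u w : WC V E) (h : (bg (ε' ε)).Adj u w) :
    (par ε u = w ∧ dep w < dep u) ∨ (par ε w = u ∧ dep u < dep w) := by
  rcases u with ⟨b, v⟩ | ⟨b, e⟩ <;> rcases w with ⟨c, w⟩ | ⟨c, w⟩
  · exact h.elim
  · obtain ⟨s, hs⟩ := h
    rw [← hs]
    exact (forest_aux c w s).symm
  · obtain ⟨s, hs⟩ := h
    rw [← hs]
    exact forest_aux b e s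
  · exact h.elim

theorem root (v : V) (u : WC V E) (h : (bg (ε' ε)).Adj (Sum.inl (1, v)) u) :
    dep (Sum.inl (1, v) : WC V E) < dep u := by
  rcases u with u | ⟨b, e⟩
  · exact h.elim
  · simp only [dep, FreeGroup.norm_one]
    omega

end Groth.Agent.An.H72.FreeForest
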