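import Groth.Agent.An.H72.GraphReal
import Mathlib.Topology.Covering.Quotient

/-!
# Coverings of graphs and their realizations
-/

set_option autoImplicit false

open Set Topology Filter

namespace Groth.Agent.An.H72.GraphCov

open Groth.Agent.An.H72.GraphReal

universe u v w

variable {W' : Type u} {W : Type v} (G' : SimpleGraph W') (G : SimpleGraph W) (φ : W' → W)
  (A : Type w) [Group A] [MulAction A W']

/-- `φ : G' → G` is a Galois covering of graphs with group `A` (and `G'` is locally finite). -/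
structure IsCov : Prop where
  adj : ∀ {u w : W'}, G'.Adj u w → G.Adj (φ u) (φ w)
  lift : ∀ u' w, G.Adj (φ u') w → ∃ w', G'.Adj u' w' ∧ φ w' = w
  uniq : ∀ {u' w₁ w₂}, G'.Adj u' w₁ → G'.Adj u' w₂ → φ w₁ = φ w₂ → w₁ = w₂
  hlf : ∀ w', {u | G'.Adj w' u}.Finite
  smul_adj : ∀ (a : A) {u w : W'}, G'.Adj u w → G'.Adj (a • u) (a • w)
  map_smul : ∀ (a : A) (u : W'), φ (a • u) = φ u
  orbit : ∀ {u w : W'}, φ u = φ w → ∃ a : A, a • u = w
  free : ∀ (a : A) (u : W'), a • u = u → a = 1
  surj : Function.Surjective φ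

variable {G' G φ A}

/-- push-forward of functions along `φ`. -/
noncomputable def qfun (φ : W' → W) (x : W' → ℝ) : W → ℝ := by
  classical
  exact fun v => ∑ᶠ v', if φ v' = v then x v' else 0

lemma qfun_eq_sum (x : W' → ℝ) (T : Finset W') (hT : ∀ v, v ∉ T → x v = 0) (v : W) :
    qfun φ x v = by classical exact ∑ v' ∈ T, if φ v' = v then x v' else 0 := by
  classical
  unfold qfun
  refine finsum_eq_sum_of_support_subset _ fun v' hv' => ?_
  by_contra h
  apply hv'
  simp only
  rw [hT v' h]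
  simp

lemma qfun_pt (a b : W') (t : ℝ) : qfun φ (pt a b t) = pt (φ a) (φ b) t := by
  classical
  funext v
  by_cases hab : a = b
  · subst hab
    rw [qfun_eq_sum _ {a} (fun v hv => by
      rw [pt_self, ind_ne (by simpa using hv)]), pt_self, Finset.sum_singleton, pt_self, ind_self]
    unfold ind
    by_cases h : φ a = v
    · simp [h]
    · simp [h, Ne.symm h]
  · rw [qfun_eq_sum _ {a, b} (fun v hv => by
      simp only [Finset.mem_insert, Finset.mem_singleton, not_or] at hv
      exact pt_apply_ne hv.1 hv.2 t), Finset.sum_pair hab, pt_apply_left hab, pt_apply_right hab]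
    unfold pt ind
    by_cases h : φ a = v
    · by_cases h' : φ b = v
      · simp [h, h']
      · simp [h, h', Ne.symm h']
    · by_cases h' : φ b = v
      · simp [h, h', Ne.symm h]
      · simp [h, h', Ne.symm h, Ne.symm h']

/-- The map of realizations. -/
noncomputable def q (h : IsCov G' G φ A) (x : Rl G') : Rl G :=
  ⟨qfun φ x.1, by
    obtain ⟨x, a, b, hab, t, h0, h1, rfl⟩ := x
    refine ⟨φ a, φ b, ?_, t, h0, h1, ?_⟩
    · rcases hab with rfl | hab
      · exact Or.inl rfl
      · exact Or.inr (h.adj hab)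
    · exact qfun_pt a b t⟩

variable (h : IsCov G' G φ A)

lemma co_q (x : Rl G') (v : W) : (q h x).co v = qfun φ x.1 v := rfl

include h in
lemma neigh_finite (w : W') : {u | w = u ∨ G'.Adj w u}.Finite := by
  have : {u | w = u ∨ G'.Adj w u} = {w} ∪ {u | G'.Adj w u} := by
    ext u; simp [eq_comm]
  rw [this]
  exact (Set.finite_singleton w).union (h.hlf w)

lemma continuous_q : Continuous (q h) := by
  classical
  rw [continuous_iff_continuousAt]
  intro x
  obtain ⟨w, hw⟩ := x.exists_pos
  let T : Finset W' := (neigh_finite h w).toFinset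
  have hT : ∀ y : Rl G', 0 < y.co w → ∀ v, v ∉ T → y.1 v = 0 := by
    intro y hy v hv
    by_contra hne
    have hvp : 0 < y.co v := lt_of_le_of_ne (y.nonneg v) (Ne.symm hne)
    exact hv ((neigh_finite h w).mem_toFinset.2 (y.adj_of_pos hy hvp))
  rw [ContinuousAt]
  refine (tendsto_subtype_rng).2 (tendsto_pi_nhds.2 fun v => ?_)
  have hev : (fun y : Rl G' => ∑ v' ∈ T, if φ v' = v then y.co v' else 0) =ᶠ[𝓝 x]
      fun y => (q h y).1 v := by
    filter_upwards [(Rl.isOpen_star w).mem_nhds hw] with y hy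
    exact (qfun_eq_sum y.1 T (hT y hy) v).symm
  refine Tendsto.congr' hev ?_
  have hc : Continuous fun y : Rl G' => ∑ v' ∈ T, if φ v' = v then y.co v' else 0 := by
    refine continuous_finsetSum _ fun v' _ => ?_
    split_ifs
    · exact Rl.continuous_co v'
    · exact continuous_const
  have h2 : (q h x).1 v = ∑ v' ∈ T, if φ v' = v then x.co v' else 0 := hev.self_of_nhds.symm
  rw [h2]
  exact hc.tendsto x

open Classical in
/-- The candidate section over the star of `φ w`. -/
noncomputable def sfun (G' : SimpleGraph W') (φ : W' → W) (w : W') (y : Rl G) : W' → ℝ :=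
  fun v => if w = v ∨ G'.Adj w v then y.co (φ v) else 0

lemma continuous_sfun (w : W') : Continuous (sfun G' φ w : Rl G → W' → ℝ) := by
  refine continuous_pi fun v => ?_
  unfold sfun
  split_ifs
  · exact Rl.continuous_co _
  · exact continuous_const

include h in
lemma inj_neigh {w u v : W'} (hu : w = u ∨ G'.Adj w u) (hv : w = v ∨ G'.Adj w v)
    (e : φ u = φ v) : u = v := by
  rcases hu with rfl | hu
  · rcases hv with rfl | hv
    · rfl
    · have := h.adj hv
      rw [e] at this
      exact absurd rfl this.ne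
  · rcases hv with rfl | hv
    · have := h.adj hu
      rw [e] at this
      exact absurd rfl this.ne
    · exact h.uniq hu hv e

include h in
lemma sfun_eq_pt (w : W') (y : Rl G) {u : W} {t : ℝ} (hu : φ w = u ∨ G.Adj (φ w) u)
    (hy : ∀ v, y.co v = pt (φ w) u t v) :
    ∃ u', (w = u' ∨ G'.Adj w u') ∧ φ u' = u ∧ sfun G' φ w y = pt w u' t := by
  obtain ⟨u', hu', hφ⟩ : ∃ u', (w = u' ∨ G'.Adj w u') ∧ φ u' = u := by
    rcases hu with rfl | hu
    · exact ⟨w, Or.inl rfl, rfl⟩
    · obtain ⟨w', h1, h2⟩ := h.lift w u hu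
      exact ⟨w', Or.inr h1, h2⟩
  refine ⟨u', hu', hφ, ?_⟩
  subst hφ
  funext v
  unfold sfun
  split_ifs with hv
  · rw [hy]
    have e1 : φ v = φ w ↔ v = w := ⟨fun e => inj_neigh h hv (Or.inl rfl) e, fun e => by rw [e]⟩
    have e2 : φ v = φ u' ↔ v = u' := ⟨fun e => inj_neigh h hv hu' e, fun e => by rw [e]⟩
    simp only [pt, ind_congr e1, ind_congr e2]
  · rw [pt_apply_ne (fun e => hv (Or.inl e.symm)) (fun e => hv (by rw [e]; exact hu'))]

include h in
lemma good_sfun (w : W') (y : Rl G) (hy : 0 < y.co (φ w)) : Good G' (sfun G' φ w y) := by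
  obtain ⟨u, hu, t, h0, h1, -, hy'⟩ := y.rep_of_pos hy
  obtain ⟨u', hu', -, e⟩ := sfun_eq_pt h w y hu hy'
  exact ⟨w, u', hu', t, h0, h1.le, e⟩

lemma q_sec (w : W') (y : Rl G) (hy : 0 < y.co (φ w)) :
    q h ⟨sfun G' φ w y, good_sfun h w y hy⟩ = y := by
  obtain ⟨u, hu, t, h0, h1, -, hy'⟩ := y.rep_of_pos hy
  obtain ⟨u', hu', hφ, e⟩ := sfun_eq_pt h w y hu hy'
  refine Rl.ext fun v => ?_
  rw [co_q]
  change qfun φ (sfun G' φ w y) v = _
  rw [e, qfun_pt, hφ, hy']

lemma q_mk {x : Rl G'} {a b : W'} {t : ℝ} (hx : ∀ v, x.co v = pt a b t v) (v : W) :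
    (q h x).co v = pt (φ a) (φ b) t v := by
  rw [co_q, show x.1 = pt a b t from funext hx, qfun_pt]

lemma q_pos {x : Rl G'} {w : W'} (hw : 0 < x.co w) : 0 < (q h x).co (φ w) := by
  obtain ⟨u, hu, t, h0, h1, h2, hx⟩ := x.rep_of_pos hw
  rw [q_mk h hx]
  unfold pt
  rw [ind_self]
  have := ind_nonneg (φ u) (φ w)
  have h3 : 0 < 1 - t := by linarith
  positivity

lemma sec_q {x : Rl G'} {w : W'} (hw : 0 < x.co w) : sfun G' φ w (q h x) = x.1 := by
  obtain ⟨u, hu, t, h0, h1, h2, hx⟩ := x.rep_of_pos hw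
  have hy := q_mk h hx
  have hu2 : φ w = φ u ∨ G.Adj (φ w) (φ u) := by
    rcases hu with rfl | hu
    · exact Or.inl rfl
    · exact Or.inr (h.adj hu)
  obtain ⟨u', hu', hφ, e⟩ := sfun_eq_pt h w (q h x) hu2 hy
  have : u' = u := inj_neigh h hu' hu hφ
  rw [e, this]
  exact (funext hx).symm

lemma isOpenMap_q : IsOpenMap (q h) := by
  classical
  rw [isOpenMap_iff_nhds_le]
  intro x
  obtain ⟨w, hw⟩ := x.exists_pos
  let g : Rl G → Rl G' := fun y => if hy : 0 < y.co (φ w) then ⟨sfun G' φ w y, good_sfun h w y hy⟩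
    else x
  have hqx : 0 < (q h x).co (φ w) := q_pos h hw
  have hopen : {y : Rl G | 0 < y.co (φ w)} ∈ 𝓝 (q h x) := (Rl.isOpen_star (φ w)).mem_nhds hqx
  have hg0 : g (q h x) = x := by
    simp only [g, hqx, dif_pos]
    exact Subtype.ext (sec_q h hw)
  have hgc : Tendsto g (𝓝 (q h x)) (𝓝 x) := by
    refine tendsto_subtype_rng.2 ?_
    have h1 : (fun y => sfun G' φ w y) =ᶠ[𝓝 (q h x)] fun y => (g y).1 := by
      filter_upwards [hopen] with y hy
      simp only [g, show 0 < y.co (φ w) from hy, dif_pos]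
    refine Tendsto.congr' h1 ?_
    rw [← sec_q h hw]
    exact (continuous_sfun w).tendsto _
  have hqg : (fun y => q h (g y)) =ᶠ[𝓝 (q h x)] fun y => y := by
    filter_upwards [hopen] with y hy
    simp only [g, show 0 < y.co (φ w) from hy, dif_pos]
    exact q_sec h w y hy
  calc 𝓝 (q h x) = map (fun y => q h (g y)) (𝓝 (q h x)) := by
        rw [Filter.map_congr hqg, Filter.map_id']
    _ = map (q h) (map g (𝓝 (q h x))) := by rw [Filter.map_map]; rfl
    _ ≤ map (q h) (𝓝 x) := Filter.map_mono hgc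

lemma surjective_q : Function.Surjective (q h) := by
  intro y
  obtain ⟨v, hv⟩ := y.exists_pos
  obtain ⟨w, rfl⟩ := h.surj v
  exact ⟨_, q_sec h w y hv⟩

/-- The action of `A` on functions. -/
def act (a : A) (x : W' → ℝ) : W' → ℝ := fun v => x (a⁻¹ • v)

lemma act_pt (a : A) (u w : W') (t : ℝ) : act a (pt u w t) = pt (a • u) (a • w) t := by
  funext v
  have h1 : ∀ u : W', ind u (a⁻¹ • v) = ind (a • u) v := fun u => ind_congr inv_smul_eq_iff
  simp only [act, pt, h1]

/-- The action of the covering group on the realization. -/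
@[reducible] def mulAction : MulAction A (Rl G') where
  smul a x := ⟨act a x.1, by
    obtain ⟨x, u, w, huw, t, h0, h1, rfl⟩ := x
    refine ⟨a • u, a • w, ?_, t, h0, h1, act_pt a u w t⟩
    rcases huw with rfl | huw
    · exact Or.inl rfl
    · exact Or.inr (h.smul_adj a huw)⟩
  one_smul x := by
    refine Subtype.ext (funext fun v => ?_)
    change x.1 ((1 : A)⁻¹ • v) = _
    simp
  mul_smul a b x := by
    refine Subtype.ext (funext fun v => ?_)
    change x.1 ((a * b)⁻¹ • v) = x.1 (b⁻¹ • a⁻¹ • v)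
    rw [mul_inv_rev, mul_smul]

lemma co_smul (a : A) (x : Rl G') (v : W') :
    letI := mulAction h
    (a • x).co v = x.co (a⁻¹ • v) := rfl

lemma smul_vx (a : A) (w : W') :
    letI := mulAction h
    a • Rl.vx G' w = Rl.vx G' (a • w) := by
  letI := mulAction h
  refine Rl.ext fun v => ?_
  rw [co_smul, Rl.co_vx, Rl.co_vx]
  exact ind_congr inv_smul_eq_iff

lemma q_smul (a : A) (x : Rl G') :
    letI := mulAction h
    q h (a • x) = q h x := by
  letI := mulAction h
  obtain ⟨u, w, huw, t, h0, h1, hx⟩ := x.exists_rep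
  refine Rl.ext fun v => ?_
  have h2 : ∀ v, (a • x).co v = pt (a • u) (a • w) t v := by
    intro v
    rw [← act_pt]
    change x.1 _ = pt u w t _
    exact hx _
  rw [q_mk h hx, q_mk h h2, h.map_smul, h.map_smul]

lemma eq_of_q_eq {x y : Rl G'} {w : W'} (hx : 0 < x.co w) (hy : 0 < y.co w)
    (e : q h x = q h y) : x = y := by
  apply Subtype.ext
  rw [← sec_q h hx, ← sec_q h hy, e]

lemma exists_pos_of_q_pos {x : Rl G'} {w : W'} (hw : 0 < (q h x).co (φ w)) :
    ∃ u, φ u = φ w ∧ 0 < x.co u := by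
  by_contra hne
  push Not at hne
  have : (q h x).co (φ w) = 0 := by
    rw [co_q]
    unfold qfun
    refine (finsum_congr fun v' => ?_).trans finsum_zero
    split_ifs with hv
    · exact le_antisymm (hne v' hv) (x.nonneg v')
    · rfl
  rw [this] at hw
  exact lt_irrefl _ hw

lemma smul_pos (a : A) {x : Rl G'} {w : W'} (hw : 0 < x.co w) :
    letI := mulAction h
    0 < (a • x).co (a • w) := by
  letI := mulAction h
  rw [co_smul, inv_smul_smul]
  exact hw

theorem isQuotientCoveringMap :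
    letI := mulAction h
    IsQuotientCoveringMap (q h) A := by
  letI := mulAction h
  refine { (isOpenMap_q h).isQuotientMap (continuous_q h) (surjective_q h) with
    continuous_const_smul := ?_, apply_eq_iff_mem_orbit := ?_, disjoint := ?_ }
  · intro a
    refine Rl.continuous_iff.2 fun v => ?_
    simp only [co_smul]
    exact Rl.continuous_co _
  · intro x y
    constructor
    · intro e
      obtain ⟨w, hw⟩ := x.exists_pos
      have h1 : 0 < (q h y).co (φ w) := by rw [← e]; exact q_pos h hw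
      obtain ⟨u, hu, hu'⟩ := exists_pos_of_q_pos h h1
      obtain ⟨a, rfl⟩ := h.orbit (A := A) hu
      refine ⟨a, ?_⟩
      change a • y = x
      exact eq_of_q_eq h (smul_pos h a hu') hw (by rw [q_smul, e])
    · rintro ⟨a, rfl⟩
      exact q_smul h a y
  · intro x
    obtain ⟨w, hw⟩ := x.exists_pos
    refine ⟨{y | 0 < y.co w}, (Rl.isOpen_star w).mem_nhds hw, fun a => ?_⟩
    rintro ⟨_, ⟨y, hy, rfl⟩, hy'⟩
    have h1 : 0 < (a • y).co (a • w) := smul_pos h a hy
    have h2 : 0 < (a • y).co w := hy'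
    rcases (a • y).adj_of_pos h1 h2 with h3 | h3
    · exact h.free a w h3
    · have := h.adj h3
      rw [h.map_smul] at this
      exact absurd rfl this.ne

end Groth.Agent.An.H72.GraphCov
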