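import Groth.Agent.An.H72.GraphPush
import Groth.Agent.An.H72.FreeForest
import Groth.Agent.An.H72.HTriv
import Mathlib.GroupTheory.FreeGroup.NielsenSchreier
import Mathlib.GroupTheory.Finiteness

/-!
# Homotopy groups of finite graphs
-/

set_option autoImplicit false
set_option linter.style.haveILetI false

open Set Topology unitInterval

namespace Groth.Agent.An.H72.GraphPi

open Groth.Agent.An.H72.GraphReal Groth.Agent.An.H72.GraphCov Groth.Agent.An.H72.FreeForest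
open Groth.Agent.An.H72.GraphPush Groth.Agent.An.H72.HTriv

universe u

lemma q_vx {W' W A : Type*} [Group A] [MulAction A W'] {G' : SimpleGraph W'} {G : SimpleGraph W}
    {φ : W' → W} (h : IsCov G' G φ A) (w : W') : q h (Rl.vx G' w) = Rl.vx G (φ w) := by
  refine Rl.ext fun v => ?_
  have h1 : ∀ v, (Rl.vx G' w).co v = pt w w 0 v := by
    intro v
    rw [pt_self]
    rfl
  rw [q_mk h h1, pt_self]
  rfl

/-- Closed-and-open sets of vertices. -/
lemma joined_mem {W : Type*} {G : SimpleGraph W} (C : Set W)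
    (hC : ∀ u w, G.Adj u w → u ∈ C → w ∈ C) {u w : W} (h : Joined (Rl.vx G u) (Rl.vx G w))
    (hu : u ∈ C) : w ∈ C := by
  obtain ⟨γ⟩ := h
  have hopen : ∀ D : Set W, IsOpen {x : Rl G | ∃ w ∈ D, 0 < x.co w} := by
    intro D
    have : {x : Rl G | ∃ w ∈ D, 0 < x.co w} = ⋃ w ∈ D, {x : Rl G | 0 < x.co w} := by
      ext x; simp
    rw [this]
    exact isOpen_biUnion fun w _ => Rl.isOpen_star w
  have hcompl : {x : Rl G | ∃ w ∈ C, 0 < x.co w}ᶜ = {x : Rl G | ∃ w ∈ Cᶜ, 0 < x.co w} := by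
    ext x
    constructor
    · intro hx
      obtain ⟨w, hw⟩ := x.exists_pos
      exact ⟨w, fun hwC => hx ⟨w, hwC, hw⟩, hw⟩
    · rintro ⟨w, hwC, hw⟩ ⟨w', hwC', hw'⟩
      rcases x.adj_of_pos hw' hw with rfl | hadj
      · exact hwC hwC'
      · exact hwC (hC _ _ hadj hwC')
  have hcl : IsClopen {x : Rl G | ∃ w ∈ C, 0 < x.co w} := by
    refine ⟨?_, hopen C⟩
    rw [← isOpen_compl_iff, hcompl]
    exact hopen _
  have hcl' := hcl.preimage γ.continuous
  have hne : (γ ⁻¹' {x : Rl G | ∃ w ∈ C, 0 < x.co w}).Nonempty := by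
    refine ⟨0, u, hu, ?_⟩
    rw [γ.source, Rl.co_vx, ind_self]
    exact one_pos
  have huniv := hcl'.eq_univ hne
  have h1 : (1 : I) ∈ γ ⁻¹' {x : Rl G | ∃ w ∈ C, 0 < x.co w} := huniv ▸ Set.mem_univ _
  obtain ⟨w', hw', hpos⟩ := h1
  rw [γ.target, Rl.co_vx] at hpos
  have : w' = w := by
    by_contra hne
    rw [ind_ne hne] at hpos
    exact lt_irrefl _ hpos
  exact this ▸ hw'

variable {V E : Type u} [Finite E] {ε : E → Bool → V} (hε : ∀ e, ε e false ≠ ε e true)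

/-- The base point upstairs. -/
noncomputable abbrev e₀ (ε : E → Bool → V) (v₀ : V) : Rl (bg (ε' ε)) :=
  Rl.vx (bg (ε' ε)) (Sum.inl (1, v₀))

include hε in
lemma contract' {K : Type*} [TopologicalSpace K] [PreconnectedSpace K] [CompactSpace K] (v₀ : V)
    (f : C(K, Rl (bg (ε' ε)))) (k₀ : K) (hk₀ : f k₀ = e₀ ε v₀) :
    f.HomotopicRel (ContinuousMap.const K (e₀ ε v₀)) {k | f k = e₀ ε v₀} := by
  letI := actW V E
  obtain ⟨S, hS⟩ := exists_finite_support (isCov hε).hlf f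
  exact contract (par ε) dep forest (Sum.inl (1, v₀)) (root v₀) S f hS k₀ hk₀

include hε in
theorem htriv_cover {n : ℕ} (hn : 1 ≤ n) (v₀ : V) : HTriv n (Rl (bg (ε' ε))) (e₀ ε v₀) := by
  intro f hf
  have h0 : (0 : Fin n → I) ∈ Cube.boundary (Fin n) := ⟨⟨0, by omega⟩, Or.inl rfl⟩
  obtain ⟨H⟩ := contract' hε v₀ f 0 (hf 0 h0)
  exact ⟨⟨H.toHomotopy, fun t x hx => H.prop t x (hf x hx)⟩⟩

include hε in
/-- The homotopy groups of degree at least two of a graph vanish. -/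
theorem htriv_graph {n : ℕ} (hn : 2 ≤ n) (v₀ : V) :
    HTriv n (Rl (bg ε)) (Rl.vx (bg ε) (Sum.inl v₀)) := by
  letI := actW V E
  letI := mulAction (isCov hε)
  have hcov := (isQuotientCoveringMap (isCov hε)).isCoveringMap
  have h1 := HTriv.of_covering hn hcov (htriv_cover hε (by omega : 1 ≤ n) v₀)
  rw [q_vx] at h1
  exact h1

include hε in
lemma subsingleton_pi_one (v₀ : V) : Subsingleton (FundamentalGroup (Rl (bg (ε' ε))) (e₀ ε v₀)) := by
  refine ⟨fun a b => ?_⟩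
  have key : ∀ c : FundamentalGroup (Rl (bg (ε' ε))) (e₀ ε v₀), c = 1 := by
    intro c
    induction c using Quotient.inductionOn with
    | _ γ =>
    refine Quotient.sound ?_
    obtain ⟨H⟩ := contract' hε v₀ γ.toContinuousMap 0 γ.source
    refine ⟨⟨H.toHomotopy, fun t x hx => H.prop t x ?_⟩⟩
    rcases hx with rfl | hx
    · exact γ.source
    · rw [Set.mem_singleton_iff] at hx
      subst hx
      exact γ.target
  rw [key a, key b]

/-- The base point upstairs as a point of the fibre. -/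
noncomputable def eF (v₀ : V) :
    letI := actW V E
    (q (isCov hε)) ⁻¹' {Rl.vx (bg ε) (Sum.inl v₀)} :=
  letI := actW V E
  ⟨e₀ ε v₀, q_vx (isCov hε) _⟩

/-- The monodromy homomorphism. -/
noncomputable def Φ (v₀ : V) :
    FundamentalGroup (Rl (bg ε)) (Rl.vx (bg ε) (Sum.inl v₀)) →* (FreeGroup E)ᵐᵒᵖ :=
  letI := actW V E
  letI := mulAction (isCov hε)
  (isQuotientCoveringMap (isCov hε)).fundamentalGroupToMulOpposite (eF hε v₀)

lemma Φ_injective (v₀ : V) : Function.Injective (Φ hε v₀) := by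
  letI := actW V E
  letI := mulAction (isCov hε)
  have := subsingleton_pi_one hε v₀
  rw [← MonoidHom.ker_eq_bot_iff]
  unfold Φ
  rw [(isQuotientCoveringMap (isCov hε)).ker_fundamentalGroupToMulOpposite,
    (isQuotientCoveringMap (isCov hε)).ker_monodromyPerm (eF hε v₀), eq_bot_iff]
  rintro _ ⟨c, rfl⟩
  have hc : c = 1 := Subsingleton.elim (α := FundamentalGroup (Rl (bg (ε' ε))) (e₀ ε v₀)) _ _
  rw [hc, map_one]
  exact Subgroup.one_mem _

include hε in
/-- The fundamental group of a graph is free. -/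
theorem isFreeGroup (v₀ : V) :
    IsFreeGroup (FundamentalGroup (Rl (bg ε)) (Rl.vx (bg ε) (Sum.inl v₀))) := by
  haveI : IsFreeGroup (FreeGroup E)ᵐᵒᵖ := IsFreeGroup.ofMulEquiv (MulEquiv.inv' (FreeGroup E))
  exact IsFreeGroup.ofMulEquiv (MonoidHom.ofInjective (Φ_injective hε v₀)).symm

include hε in
/-- Joined vertices lift to joined vertices. -/
lemma exists_joined (v₀ v : V) (hj : Joined (Rl.vx (bg ε) (Sum.inl v₀)) (Rl.vx (bg ε) (Sum.inl v))) :
    ∃ t : FreeGroup E, Joined (e₀ ε v₀) (Rl.vx (bg (ε' ε)) (Sum.inl (t, v))) := by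
  letI := actW V E
  letI := mulAction (isCov hε)
  have hq := isQuotientCoveringMap (isCov hε)
  obtain ⟨γ⟩ := hj
  obtain ⟨Γ, hΓ, hΓ0⟩ := hq.isCoveringMap.exists_path_lifts γ.toContinuousMap (e₀ ε v₀)
    (by rw [q_vx]; exact γ.source)
  have h1 : q (isCov hε) (Γ 1) = Rl.vx (bg ε) (Sum.inl v) := by
    have := congr_fun hΓ 1
    simp only [Function.comp_apply] at this
    rw [this]
    exact γ.target
  have h2 : q (isCov hε) (Rl.vx (bg (ε' ε)) (Sum.inl (1, v))) = Rl.vx (bg ε) (Sum.inl v) :=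
    q_vx (isCov hε) _
  obtain ⟨a, ha⟩ := hq.apply_eq_iff_mem_orbit.1 (h1.trans h2.symm)
  refine ⟨a⁻¹, ⟨⟨Γ, hΓ0, ?_⟩⟩⟩
  change Γ 1 = _
  rw [← ha]
  change a • Rl.vx (bg (ε' ε)) (Sum.inl (1, v)) = _
  rw [smul_vx, smul_inl, one_mul]

include hε in
lemma joined_smul (a : FreeGroup E) {b c : WC V E}
    (h : Joined (Rl.vx (bg (ε' ε)) b) (Rl.vx (bg (ε' ε)) c)) :
    letI := actW V E
    Joined (Rl.vx (bg (ε' ε)) (a • b)) (Rl.vx (bg (ε' ε)) (a • c)) := by
  letI := actW V E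
  letI := mulAction (isCov hε)
  have hq := isQuotientCoveringMap (isCov hε)
  obtain ⟨γ⟩ := h
  have hc : Continuous fun x : Rl (bg (ε' ε)) => a • x :=
    hq.toContinuousConstSMul.continuous_const_smul a
  have h2 := (γ.map hc)
  rw [← smul_vx (isCov hε), ← smul_vx (isCov hε)]
  exact ⟨h2⟩

lemma Φ_apply_eq {v₀ : V} {g : FreeGroup E}
    (h : Joined (e₀ ε v₀) (Rl.vx (bg (ε' ε)) (Sum.inl (g⁻¹, v₀)))) :
    ∃ γ, Φ hε v₀ γ = MulOpposite.op g := by
  letI := actW V E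
  letI := mulAction (isCov hε)
  have hq := isQuotientCoveringMap (isCov hε)
  obtain ⟨Γ⟩ := h
  have hs : q (isCov hε) (e₀ ε v₀) = Rl.vx (bg ε) (Sum.inl v₀) := q_vx (isCov hε) _
  have ht : q (isCov hε) (Rl.vx (bg (ε' ε)) (Sum.inl (g⁻¹, v₀))) = Rl.vx (bg ε) (Sum.inl v₀) :=
    q_vx (isCov hε) _
  let γ : Path (Rl.vx (bg ε) (Sum.inl v₀)) (Rl.vx (bg ε) (Sum.inl v₀)) :=
    (Γ.map hq.continuous).cast hs.symm ht.symm
  refine ⟨Path.Homotopic.Quotient.mk γ, ?_⟩
  unfold Φ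
  rw [hq.fundamentalGroupToMulOpposite_apply_eq_Iff, MulOpposite.unop_op]
  have hmon := hq.isCoveringMap.monodromy_eq_of_map_eq (γ := Path.Homotopic.Quotient.mk γ)
    (ex := eF hε v₀) (ey := ⟨_, ht⟩) (Path.Homotopic.Quotient.mk Γ) (by
      refine congr_arg Path.Homotopic.Quotient.mk ?_
      ext t
      rfl)
  rw [hmon]
  change g • Rl.vx (bg (ε' ε)) (Sum.inl (1, v₀)) = _
  rw [smul_vx, smul_inl, one_mul]

lemma joined_of_Φ {v₀ : V} (γ : FundamentalGroup (Rl (bg ε)) (Rl.vx (bg ε) (Sum.inl v₀))) :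
    Joined (e₀ ε v₀) (Rl.vx (bg (ε' ε)) (Sum.inl ((Φ hε v₀ γ).unop⁻¹, v₀))) := by
  letI := actW V E
  letI := mulAction (isCov hε)
  have hq := isQuotientCoveringMap (isCov hε)
  have h1 := hq.unop_fundamentalGroupToMulOpposite_smul (e := eF hε v₀) (γ := γ)
  have h2 : (hq.isCoveringMap.monodromy γ (eF hε v₀) : Rl (bg (ε' ε))) =
      Rl.vx (bg (ε' ε)) (Sum.inl ((Φ hε v₀ γ).unop⁻¹, v₀)) := by
    rw [← h1]
    change (Φ hε v₀ γ).unop • Rl.vx (bg (ε' ε)) (Sum.inl (1, v₀)) = _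
    rw [smul_vx, smul_inl, one_mul]
  rw [← h2]
  induction (hq.isCoveringMap.liftPathQuotient γ (eF hε v₀)) using Quotient.inductionOn with
  | _ Γ => exact ⟨Γ⟩

include hε in
/-- The fundamental group of a finite connected graph is finitely generated. -/
theorem fg (v₀ : V) (hconn : ∀ v, Joined (Rl.vx (bg ε) (Sum.inl v₀)) (Rl.vx (bg ε) (Sum.inl v))) :
    Group.FG (FundamentalGroup (Rl (bg ε)) (Rl.vx (bg ε) (Sum.inl v₀))) := by
  classical
  letI := actW V E
  -- connecting elements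
  have hex : ∀ v, ∃ t : FreeGroup E, Joined (e₀ ε v₀) (Rl.vx (bg (ε' ε)) (Sum.inl (t, v))) ∧
      (v = v₀ → t = 1) := by
    intro v
    by_cases hv : v = v₀
    · exact ⟨1, by rw [hv], fun _ => rfl⟩
    · obtain ⟨t, ht⟩ := exists_joined hε v₀ v (hconn v)
      exact ⟨t, ht, fun h => absurd h hv⟩
  choose t ht ht0 using hex
  let g : E → FreeGroup E := fun e => (t (ε e true))⁻¹ * FreeGroup.of e * t (ε e false)
  have hg : ∀ e, Joined (e₀ ε v₀) (Rl.vx (bg (ε' ε)) (Sum.inl ((g e)⁻¹⁻¹, v₀))) := by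
    intro e
    have j1 : Joined (e₀ ε v₀) (Rl.vx (bg (ε' ε)) (Sum.inl (t (ε e false), ε e false))) := ht _
    have j2 : Joined (Rl.vx (bg (ε' ε)) (Sum.inl (t (ε e false), ε e false)))
        (Rl.vx (bg (ε' ε)) (Sum.inr (t (ε e false), e))) :=
      Rl.joined_of_adj ((bg_lr _ _).2 ⟨false, rfl⟩)
    have j3 : Joined (Rl.vx (bg (ε' ε)) (Sum.inr (t (ε e false), e)))
        (Rl.vx (bg (ε' ε)) (Sum.inl (FreeGroup.of e * t (ε e false), ε e true))) :=
      Rl.joined_of_adj ((bg_rl _ _).2 ⟨true, rfl⟩)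
    have j4 := joined_smul hε ((FreeGroup.of e * t (ε e false))⁻¹ * t (ε e true)) (ht (ε e true))
    rw [smul_inl, smul_inl] at j4
    have e1 : t (ε e true) * ((FreeGroup.of e * t (ε e false))⁻¹ * t (ε e true))⁻¹ =
        FreeGroup.of e * t (ε e false) := by group
    have e2 : (1 : FreeGroup E) * ((FreeGroup.of e * t (ε e false))⁻¹ * t (ε e true))⁻¹ = g e := by
      simp only [g]; group
    simp only [e1, e2] at j4
    rw [inv_inv]
    exact ((j1.trans j2).trans j3).trans j4.symm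
  have hγ : ∀ e, ∃ γ, Φ hε v₀ γ = MulOpposite.op (g e)⁻¹ := fun e => Φ_apply_eq hε (hg e)
  choose γ hγ using hγ
  let N : Subgroup (FreeGroup E) := Subgroup.closure (Set.range g)
  -- the set of vertices closed under adjacency
  let C : Set (WC V E) := {w | match w with
    | Sum.inl p => (t p.2)⁻¹ * p.1 ∈ N
    | Sum.inr p => (t (ε p.2 false))⁻¹ * p.1 ∈ N}
  have hCl : ∀ p : FreeGroup E × V, (Sum.inl p : WC V E) ∈ C ↔ (t p.2)⁻¹ * p.1 ∈ N :=
    fun _ => Iff.rfl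
  have hCr : ∀ p : FreeGroup E × E, (Sum.inr p : WC V E) ∈ C ↔ (t (ε p.2 false))⁻¹ * p.1 ∈ N :=
    fun _ => Iff.rfl
  have hkey : ∀ (b : FreeGroup E) (e : E) (s : Bool),
      (Sum.inl (ε' ε (b, e) s) : WC V E) ∈ C ↔ (Sum.inr (b, e) : WC V E) ∈ C := by
    intro b e s
    rw [hCl, hCr]
    cases s
    · rfl
    · rw [ε'_true]
      have e1 : (t (ε e true))⁻¹ * (FreeGroup.of e * b) = g e * ((t (ε e false))⁻¹ * b) := by
        simp only [g]; group
      simp only [e1]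
      exact Subgroup.mul_mem_cancel_left N (Subgroup.subset_closure ⟨e, rfl⟩)
  have hC : ∀ u w, (bg (ε' ε)).Adj u w → u ∈ C → w ∈ C := by
    rintro (u | ⟨b, e⟩) (w | ⟨c, f⟩) h hu
    · exact h.elim
    · obtain ⟨s, hs⟩ := h
      rw [← hs] at hu
      exact (hkey _ _ _).1 hu
    · obtain ⟨s, hs⟩ := h
      rw [← hs]
      exact (hkey _ _ _).2 hu
    · exact h.elim
  have h0C : (Sum.inl (1, v₀) : WC V E) ∈ C := by
    rw [hCl]
    simp only [ht0 v₀ rfl, inv_one, one_mul]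
    exact N.one_mem
  have hrange : ∀ c, (Φ hε v₀ c).unop ∈ N := by
    intro c
    have h1 := joined_mem C hC (joined_of_Φ hε c) h0C
    rw [hCl] at h1
    simp only [ht0 v₀ rfl, inv_one, one_mul] at h1
    exact (Subgroup.inv_mem_iff N).1 h1
  -- the generators
  have hclos : Subgroup.closure (Set.range γ) = ⊤ := by
    rw [eq_top_iff]
    intro c _
    have h1 : ∀ n ∈ N, ∀ d, Φ hε v₀ d = MulOpposite.op n → d ∈ Subgroup.closure (Set.range γ) := by
      intro n hn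
      have : ∃ d ∈ Subgroup.closure (Set.range γ), Φ hε v₀ d = MulOpposite.op n := by
        refine Subgroup.closure_induction (p := fun n _ =>
          ∃ d ∈ Subgroup.closure (Set.range γ), Φ hε v₀ d = MulOpposite.op n) ?_ ?_ ?_ ?_ hn
        · rintro _ ⟨e, rfl⟩
          refine ⟨(γ e)⁻¹, Subgroup.inv_mem _ (Subgroup.subset_closure ⟨e, rfl⟩), ?_⟩
          rw [map_inv, hγ, ← MulOpposite.op_inv, inv_inv]
        · exact ⟨1, Subgroup.one_mem _, by rw [map_one]; rfl⟩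
        · rintro x y _ _ ⟨d, hd, hd'⟩ ⟨d', he, he'⟩
          exact ⟨d' * d, Subgroup.mul_mem _ he hd, by rw [map_mul, hd', he']; rfl⟩
        · rintro x _ ⟨d, hd, hd'⟩
          exact ⟨d⁻¹, Subgroup.inv_mem _ hd, by rw [map_inv, hd']; rfl⟩
      obtain ⟨d, hd, hd'⟩ := this
      intro d' h'
      have : d' = d := Φ_injective hε v₀ (h'.trans hd'.symm)
      exact this ▸ hd
    exact h1 _ (hrange c) c rfl
  rw [Group.fg_iff]
  exact ⟨Set.range γ, hclos, Set.finite_range γ⟩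

end Groth.Agent.An.H72.GraphPi
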