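import Groth.Agent.An.H72.GraphReal

/-!
# Contracting compact sets in a forest
-/

set_option autoImplicit false

open Set Topology unitInterval

namespace Groth.Agent.An.H72.GraphPush

open Groth.Agent.An.H72.GraphReal

universe u

variable {W : Type u} {G : SimpleGraph W}

/-- Moving the coordinate at `w₀` towards its neighbour `p₀` stays in the realization when no other
neighbour of `w₀` is involved. -/
lemma push_good (x : Rl G) {w₀ p₀ : W} (hadj : G.Adj w₀ p₀)
    (h : ∀ u, G.Adj w₀ u → u ≠ p₀ → x.co u = 0) (t : ℝ) (h0 : 0 ≤ t) (h1 : t ≤ 1) :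
    Good G (fun v => x.co v + t * x.co w₀ * (ind p₀ v - ind w₀ v)) := by
  rcases (x.nonneg w₀).lt_or_eq with hp | hz
  · obtain ⟨u, hu, s, hs0, hs1, hs2, hx⟩ := x.rep_of_pos hp
    have key : x = Rl.vx G w₀ → Good G (fun v => x.co v + t * x.co w₀ * (ind p₀ v - ind w₀ v)) := by
      rintro rfl
      refine ⟨w₀, p₀, Or.inr hadj, t, h0, h1, ?_⟩
      funext v
      simp only [Rl.co_vx, ind_self, pt]
      ring
    by_cases huw : w₀ = u
    · apply key
      refine Rl.eq_vx_of_forall x fun v hv => ?_
      subst huw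
      rw [hx, pt_self, ind_ne hv]
    · have hadj' : G.Adj w₀ u := hu.resolve_left huw
      by_cases hup : u = p₀
      · subst hup
        refine ⟨w₀, u, Or.inr hadj, s + t * (1 - s), ?_, ?_, ?_⟩
        · have : 0 ≤ 1 - s := by linarith
          positivity
        · nlinarith
        · funext v
          simp only [hx, pt]
          simp only [ind_self, ind_ne huw]
          ring
      · apply key
        have h3 := h u hadj' hup
        rw [hx, pt_apply_right huw] at h3
        subst h3
        refine Rl.eq_vx_of_forall x fun v hv => ?_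
        rw [hx, pt_zero, ind_ne hv]
  · have h1 : (fun v => x.co v + t * x.co w₀ * (ind p₀ v - ind w₀ v)) = x.1 := by
      funext v
      rw [← hz]
      simp [Rl.co]
    rw [h1]
    exact x.2

variable {K : Type*} [TopologicalSpace K]

/-- One elementary push. -/
lemma step (f : C(K, Rl G)) {w₀ p₀ : W} (hadj : G.Adj w₀ p₀)
    (h : ∀ k u, G.Adj w₀ u → u ≠ p₀ → (f k).co u = 0) :
    ∃ f' : C(K, Rl G), f.HomotopicRel f' {k | (f k).co w₀ = 0} ∧
      (∀ k, (f' k).co w₀ = 0) ∧ ∀ k v, v ≠ w₀ → v ≠ p₀ → (f' k).co v = (f k).co v := by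
  let F : C(I × K, Rl G) :=
    ⟨fun p => ⟨fun v => (f p.2).co v + p.1.1 * (f p.2).co w₀ * (ind p₀ v - ind w₀ v),
      push_good (f p.2) hadj (h p.2) p.1.1 p.1.2.1 p.1.2.2⟩, by
      refine Rl.continuous_iff.2 fun v => ?_
      change Continuous fun p : I × K => (f p.2).co v + p.1.1 * (f p.2).co w₀ *
        (ind p₀ v - ind w₀ v)
      have h1 : Continuous fun p : I × K => (f p.2).co v :=
        (Rl.continuous_co v).comp (f.continuous.comp continuous_snd)
      have h2 : Continuous fun p : I × K => (f p.2).co w₀ :=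
        (Rl.continuous_co w₀).comp (f.continuous.comp continuous_snd)
      have h3 : Continuous fun p : I × K => (p.1 : ℝ) := continuous_subtype_val.comp continuous_fst
      exact h1.add ((h3.mul h2).mul continuous_const)⟩
  have hF : ∀ (t : I) (k : K) (v : W), (F (t, k)).co v =
      (f k).co v + t.1 * (f k).co w₀ * (ind p₀ v - ind w₀ v) := fun t k v => rfl
  refine ⟨⟨fun k => F (1, k), F.continuous.comp (by fun_prop)⟩, ⟨⟨⟨F, ?_, ?_⟩, ?_⟩⟩, ?_, ?_⟩
  · intro k
    refine Rl.ext fun v => ?_
    change (F (0, k)).co v = _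
    rw [hF]
    simp
  · intro k
    rfl
  · intro t k hk
    refine Rl.ext fun v => ?_
    change (F (t, k)).co v = _
    rw [hF, show (f k).co w₀ = 0 from hk]
    simp
  · intro k
    change (F (1, k)).co w₀ = 0
    rw [hF, ind_self, ind_ne hadj.ne]
    simp
  · intro k v hv hv'
    change (F (1, k)).co v = _
    rw [hF, ind_ne hv, ind_ne hv']
    simp

/-- The contraction theorem: `par` and `dep` make `G` a rooted forest; `r₀` is a root. -/
theorem contract [PreconnectedSpace K] (par : W → W) (dep : W → ℕ)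
    (hF : ∀ u w, G.Adj u w → (par u = w ∧ dep w < dep u) ∨ (par w = u ∧ dep u < dep w))
    (r₀ : W) (hr₀ : ∀ u, G.Adj r₀ u → dep r₀ < dep u)
    (S : Finset W) (f : C(K, Rl G)) (hS : ∀ k w, w ∉ S → (f k).co w = 0)
    (k₀ : K) (hk₀ : f k₀ = Rl.vx G r₀) :
    f.HomotopicRel (ContinuousMap.const K (Rl.vx G r₀)) {k | f k = Rl.vx G r₀} := by
  classical
  suffices H : ∀ (n : ℕ) (S : Finset W) (f : C(K, Rl G)), (∑ w ∈ S, (dep w + 1)) = n →
      (∀ k w, w ∉ S → (f k).co w = 0) → f k₀ = Rl.vx G r₀ →
      f.HomotopicRel (ContinuousMap.const K (Rl.vx G r₀)) {k | f k = Rl.vx G r₀} from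
    H _ S f rfl hS hk₀
  intro n
  induction n using Nat.strong_induction_on with
  | _ n ih =>
  intro S f hn hS hk₀
  by_cases hroot : ∀ w ∈ S, ∀ u, G.Adj w u → dep w < dep u
  · -- all vertices of the support are roots
    have hvx : ∀ k, ∃ w, f k = Rl.vx G w := by
      intro k
      obtain ⟨w, hw⟩ := (f k).exists_pos
      refine ⟨w, Rl.eq_vx_of_forall _ fun v hv => ?_⟩
      by_contra hne
      have hvp : 0 < (f k).co v := lt_of_le_of_ne ((f k).nonneg v) (Ne.symm hne)
      have hwS : w ∈ S := by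
        by_contra hh
        rw [hS k w hh] at hw
        exact lt_irrefl _ hw
      have hvS : v ∈ S := by
        by_contra hh
        exact hne (hS k v hh)
      have hadj : G.Adj w v := ((f k).adj_of_pos hw hvp).resolve_left (Ne.symm hv)
      have h1 := hroot w hwS v hadj
      have h2 := hroot v hvS w hadj.symm
      omega
    have hconst : ∀ k, (f k).co r₀ = 1 := by
      have hcl : IsClopen {k | (f k).co r₀ = 1} := by
        have hcont : Continuous fun k => (f k).co r₀ := (Rl.continuous_co r₀).comp f.continuous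
        refine ⟨isClosed_eq hcont continuous_const, ?_⟩
        have : {k | (f k).co r₀ = 1} = {k | (1 : ℝ) / 2 < (f k).co r₀} := by
          ext k
          obtain ⟨w, hw⟩ := hvx k
          simp only [Set.mem_ofPred_eq, hw, Rl.co_vx]
          unfold ind
          split_ifs <;> norm_num
        rw [this]
        exact isOpen_lt continuous_const hcont
      have hne : {k | (f k).co r₀ = 1}.Nonempty := ⟨k₀, by
        simp [hk₀, Rl.co_vx, ind_self]⟩
      have huniv := hcl.eq_univ hne
      intro k
      have : k ∈ {k | (f k).co r₀ = 1} := huniv ▸ Set.mem_univ k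
      exact this
    have hfc : f = ContinuousMap.const K (Rl.vx G r₀) := by
      ext k : 1
      obtain ⟨w, hw⟩ := hvx k
      have h1 := hconst k
      rw [hw, Rl.co_vx] at h1
      have : r₀ = w := by
        by_contra hne
        rw [ind_ne hne] at h1
        exact zero_ne_one h1
      subst this
      exact hw
    rw [hfc]
    exact ContinuousMap.HomotopicRel.refl _
  · push Not at hroot
    obtain ⟨w₁, hw₁S, u₁, hu₁, hd₁⟩ := hroot
    -- a nonroot of maximal depth
    let N : Finset W := S.filter fun w => ∃ u, G.Adj w u ∧ dep u ≤ dep w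
    have hN : N.Nonempty := ⟨w₁, Finset.mem_filter.2 ⟨hw₁S, u₁, hu₁, hd₁⟩⟩
    obtain ⟨w₀, hw₀N, hmax⟩ := N.exists_max_image dep hN
    obtain ⟨hw₀S, p₀, hadj, hdp⟩ := Finset.mem_filter.1 hw₀N
    have hpar : par w₀ = p₀ ∧ dep p₀ < dep w₀ := by
      rcases hF w₀ p₀ hadj with h | h
      · exact h
      · omega
    have hch : ∀ k u, G.Adj w₀ u → u ≠ p₀ → (f k).co u = 0 := by
      intro k u hu hne
      apply hS
      intro huS
      rcases hF w₀ u hu with h | h
      · exact hne (h.1.symm.trans hpar.1)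
      · have huN : u ∈ N := Finset.mem_filter.2 ⟨huS, w₀, hu.symm, h.2.le⟩
        have := hmax u huN
        omega
    obtain ⟨f', hff', hz, hoth⟩ := step f hadj hch
    have hw₀r : w₀ ≠ r₀ := by
      rintro rfl
      have := hr₀ p₀ hadj
      omega
    have hsub : {k | f k = Rl.vx G r₀} ⊆ {k | (f k).co w₀ = 0} := by
      intro k hk
      have hk' : f k = Rl.vx G r₀ := hk
      simp [hk', Rl.co_vx, ind_ne hw₀r]
    have hsub' : {k | f k = Rl.vx G r₀} ⊆ {k | f' k = Rl.vx G r₀} := by
      intro k hk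
      have h1 := hff'.fst_eq_snd (hsub hk)
      have hk' : f k = Rl.vx G r₀ := hk
      change f' k = _
      rw [← h1, hk']
    -- the new support
    have hS' : ∀ k w, w ∉ insert p₀ (S.erase w₀) → (f' k).co w = 0 := by
      intro k w hw
      rw [Finset.mem_insert, Finset.mem_erase, not_or] at hw
      by_cases hww : w = w₀
      · rw [hww]; exact hz k
      · rw [hoth k w hww hw.1]
        apply hS
        intro h
        exact hw.2 ⟨hww, h⟩
    have hlt : (∑ w ∈ insert p₀ (S.erase w₀), (dep w + 1)) < n := by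
      have h1 : (∑ w ∈ S.erase w₀, (dep w + 1)) + (dep w₀ + 1) = n := by
        rw [Finset.sum_erase_add _ _ hw₀S, hn]
      have h2 : (∑ w ∈ insert p₀ (S.erase w₀), (dep w + 1)) ≤
          (∑ w ∈ S.erase w₀, (dep w + 1)) + (dep p₀ + 1) := by
        by_cases hmem : p₀ ∈ S.erase w₀
        · rw [Finset.insert_eq_of_mem hmem]; omega
        · rw [Finset.sum_insert hmem]; omega
      have := hpar.2
      omega
    have hih := ih _ hlt (insert p₀ (S.erase w₀)) f' rfl hS' (hsub' hk₀)
    obtain ⟨H1⟩ := hff'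
    obtain ⟨H2⟩ := hih
    have H1' : f.HomotopyRel f' {k | f k = Rl.vx G r₀} :=
      ⟨H1.toHomotopy, fun t x hx => H1.prop t x (hsub hx)⟩
    have H2' : f'.HomotopyRel (ContinuousMap.const K (Rl.vx G r₀)) {k | f k = Rl.vx G r₀} :=
      ⟨H2.toHomotopy, fun t x hx => H2.prop t x (hsub' hx)⟩
    exact ⟨H1'.trans H2'⟩

/-- Compact sets have finite support when the graph is locally finite. -/
theorem exists_finite_support [CompactSpace K] (hlf : ∀ w, {u | G.Adj w u}.Finite)
    (f : C(K, Rl G)) : ∃ S : Finset W, ∀ k w, w ∉ S → (f k).co w = 0 := by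
  classical
  have hcov : (univ : Set K) ⊆ ⋃ w : W, {k | 0 < (f k).co w} := by
    intro k _
    obtain ⟨w, hw⟩ := (f k).exists_pos
    exact Set.mem_iUnion.2 ⟨w, hw⟩
  obtain ⟨T, hT⟩ := isCompact_univ.elim_finite_subcover (fun w : W => {k | 0 < (f k).co w})
    (fun w => (Rl.isOpen_star w).preimage f.continuous) hcov
  refine ⟨T.biUnion fun w => insert w (hlf w).toFinset, fun k v hv => ?_⟩
  by_contra hne
  have hvp : 0 < (f k).co v := lt_of_le_of_ne ((f k).nonneg v) (Ne.symm hne)
  obtain ⟨w, hwT, hw⟩ := Set.mem_iUnion₂.1 (hT (Set.mem_univ k))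
  apply hv
  rw [Finset.mem_biUnion]
  refine ⟨w, hwT, ?_⟩
  rcases (f k).adj_of_pos hw hvp with h | h
  · rw [h]; exact Finset.mem_insert_self _ _
  · exact Finset.mem_insert_of_mem ((hlf w).mem_toFinset.2 h)

end Groth.Agent.An.H72.GraphPush
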