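import Mathlib.Combinatorics.SimpleGraph.Basic
import Mathlib.Topology.Homotopy.Basic
import Mathlib.Topology.Connected.PathConnected
import Mathlib.Topology.Algebra.Order.Field
import Mathlib.Analysis.Normed.Ring.Lemmas
import Mathlib.Tactic.Linarith
import Mathlib.Tactic.Positivity

/-!
# Geometric realization of a simple graph in barycentric coordinates
-/

set_option autoImplicit false

open Set Topology

namespace Groth.Agent.An.H72.GraphReal

universe u

variable {W : Type u}

open Classical in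
/-- The vertex `u` as a function of the vertices. -/
noncomputable def ind (u : W) (v : W) : ℝ := if v = u then 1 else 0

lemma ind_self (u : W) : ind u u = 1 := by simp [ind]

lemma ind_ne {u v : W} (h : v ≠ u) : ind u v = 0 := by simp [ind, h]

lemma ind_nonneg (u v : W) : 0 ≤ ind u v := by
  unfold ind; split_ifs <;> norm_num

lemma ind_congr {W' : Type*} {u v : W} {u' v' : W'} (h : v = u ↔ v' = u') :
    ind u v = ind u' v' := by
  by_cases h1 : v = u
  · have h2 := h.1 h1
    subst h1
    subst h2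
    rw [ind_self, ind_self]
  · have h2 : v' ≠ u' := fun h2 => h1 (h.2 h2)
    rw [ind_ne h1, ind_ne h2]

/-- The point with parameter `t` on the segment from `u` to `w`. -/
noncomputable def pt (u w : W) (t : ℝ) : W → ℝ := fun v => (1 - t) * ind u v + t * ind w v

lemma pt_symm (u w : W) (t : ℝ) : pt u w t = pt w u (1 - t) := by
  funext v; simp only [pt]; ring

lemma pt_zero (u w : W) : pt u w 0 = ind u := by
  funext v; simp [pt]

lemma pt_one (u w : W) : pt u w 1 = ind w := by
  funext v; simp [pt]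

lemma pt_self (u : W) (t : ℝ) : pt u u t = ind u := by
  funext v; simp only [pt]; ring

lemma pt_apply_left {u w : W} (h : u ≠ w) (t : ℝ) : pt u w t u = 1 - t := by
  simp [pt, ind_self, ind_ne h]

lemma pt_apply_right {u w : W} (h : u ≠ w) (t : ℝ) : pt u w t w = t := by
  simp [pt, ind_self, ind_ne h.symm]

lemma pt_apply_ne {u w v : W} (h : v ≠ u) (h' : v ≠ w) (t : ℝ) : pt u w t v = 0 := by
  simp [pt, ind_ne h, ind_ne h']

lemma continuous_pt (u w : W) : Continuous (pt u w) := by
  refine continuous_pi fun v => ?_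
  unfold pt
  fun_prop

/-- The condition defining the realization. -/
def Good (G : SimpleGraph W) (x : W → ℝ) : Prop :=
  ∃ u w, (u = w ∨ G.Adj u w) ∧ ∃ t : ℝ, 0 ≤ t ∧ t ≤ 1 ∧ x = pt u w t

/-- The geometric realization of the graph `G`, in barycentric coordinates, with the topology of
pointwise convergence. -/
def Rl (G : SimpleGraph W) : Type u := {x : W → ℝ // Good G x}

variable (G : SimpleGraph W)

instance : TopologicalSpace (Rl G) := instTopologicalSpaceSubtype

variable {G}

/-- The coordinate function. -/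
def Rl.co (x : Rl G) (w : W) : ℝ := x.1 w

@[ext] lemma Rl.ext {x y : Rl G} (h : ∀ w, x.co w = y.co w) : x = y :=
  Subtype.ext (funext h)

lemma Rl.continuous_co (w : W) : Continuous fun x : Rl G => x.co w :=
  (continuous_apply w).comp continuous_subtype_val

lemma Rl.continuous_iff {X : Type*} [TopologicalSpace X] {f : X → Rl G} :
    Continuous f ↔ ∀ w, Continuous fun x => (f x).co w := by
  constructor
  · intro h w
    exact (Rl.continuous_co w).comp h
  · intro h
    exact Continuous.subtype_mk (continuous_pi h) _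

instance : T2Space (Rl G) := by
  unfold Rl
  infer_instance

/-- Points on edges. -/
noncomputable def Rl.mk (u w : W) (h : u = w ∨ G.Adj u w) (t : ℝ) (h0 : 0 ≤ t) (h1 : t ≤ 1) : Rl G :=
  ⟨pt u w t, u, w, h, t, h0, h1, rfl⟩

lemma Rl.co_mk (u w : W) (h : u = w ∨ G.Adj u w) (t : ℝ) (h0 : 0 ≤ t) (h1 : t ≤ 1) (v : W) :
    (Rl.mk u w h t h0 h1).co v = pt u w t v := rfl

/-- Vertices. -/
noncomputable def Rl.vx (G : SimpleGraph W) (u : W) : Rl G :=
  ⟨ind u, u, u, Or.inl rfl, 0, le_rfl, zero_le_one, (pt_zero u u).symm⟩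

lemma Rl.co_vx (u v : W) : (Rl.vx G u).co v = ind u v := rfl

lemma Rl.nonneg (x : Rl G) (w : W) : 0 ≤ x.co w := by
  obtain ⟨x, u, w', h, t, h0, h1, rfl⟩ := x
  change 0 ≤ pt u w' t w
  have := ind_nonneg u w
  have := ind_nonneg w' w
  have h2 : 0 ≤ 1 - t := by linarith
  unfold pt
  positivity

lemma Rl.exists_rep (x : Rl G) : ∃ u w, (u = w ∨ G.Adj u w) ∧ ∃ t : ℝ, 0 ≤ t ∧ t < 1 ∧
    ∀ v, x.co v = pt u w t v := by
  obtain ⟨x, u, w, h, t, h0, h1, rfl⟩ := x
  rcases h1.lt_or_eq with h1 | h1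
  · exact ⟨u, w, h, t, h0, h1, fun v => rfl⟩
  · subst h1
    refine ⟨w, w, Or.inl rfl, 0, le_rfl, one_pos, fun v => ?_⟩
    change pt u w 1 v = _
    rw [pt_one, pt_zero]

lemma Rl.exists_pos (x : Rl G) : ∃ w, 0 < x.co w := by
  obtain ⟨u, w, h, t, h0, h1, hx⟩ := x.exists_rep
  refine ⟨u, ?_⟩
  rw [hx]
  unfold pt
  rw [ind_self]
  have := ind_nonneg w u
  have h2 : 0 < 1 - t := by linarith
  positivity

/-- Representation of a point in the open star of `w`. -/
lemma Rl.rep_of_pos (x : Rl G) {w : W} (hw : 0 < x.co w) :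
    ∃ u, (w = u ∨ G.Adj w u) ∧ ∃ t : ℝ, 0 ≤ t ∧ t < 1 ∧ (w = u → t = 0) ∧
      ∀ v, x.co v = pt w u t v := by
  obtain ⟨x, a, b, h, t, h0, h1, rfl⟩ := x
  change 0 < pt a b t w at hw
  by_cases hab : a = b
  · subst hab
    rw [pt_self] at hw
    have haw : w = a := by
      by_contra hne
      rw [ind_ne hne] at hw
      exact lt_irrefl _ hw
    subst haw
    refine ⟨w, Or.inl rfl, 0, le_rfl, one_pos, fun _ => rfl, fun v => ?_⟩
    change pt w w t v = _
    rw [pt_self, pt_self]
  · have hadj : G.Adj a b := h.resolve_left hab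
    by_cases hwa : w = a
    · subst hwa
      rw [pt_apply_left hab] at hw
      exact ⟨b, Or.inr hadj, t, h0, by linarith, fun e => absurd e hab, fun v => rfl⟩
    · by_cases hwb : w = b
      · subst hwb
        rw [pt_apply_right hab] at hw
        refine ⟨a, Or.inr hadj.symm, 1 - t, by linarith, by linarith, fun e => absurd e.symm hab,
          fun v => ?_⟩
        change pt a w t v = _
        rw [pt_symm]
      · rw [pt_apply_ne hwa hwb] at hw
        exact absurd hw (lt_irrefl _)

lemma Rl.adj_of_pos (x : Rl G) {w v : W} (hw : 0 < x.co w) (hv : 0 < x.co v) :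
    w = v ∨ G.Adj w v := by
  obtain ⟨u, hu, t, h0, h1, -, hx⟩ := x.rep_of_pos hw
  rw [hx] at hv
  by_cases h2 : v = w
  · exact Or.inl h2.symm
  · by_cases h3 : v = u
    · subst h3; exact hu
    · rw [pt_apply_ne h2 h3] at hv
      exact absurd hv (lt_irrefl _)

lemma Rl.eq_vx_of_forall (x : Rl G) {w : W} (h : ∀ v, v ≠ w → x.co v = 0) : x = Rl.vx G w := by
  obtain ⟨v, hv⟩ := x.exists_pos
  have hvw : v = w := by
    by_contra hne
    rw [h v hne] at hv
    exact lt_irrefl _ hv
  subst hvw
  obtain ⟨u, hu, t, h0, h1, h2, hx⟩ := x.rep_of_pos hv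
  by_cases huv : v = u
  · subst huv
    ext z
    rw [hx, pt_self, Rl.co_vx]
  · have h3 : x.co u = 0 := h u (Ne.symm huv)
    rw [hx, pt_apply_right huv] at h3
    subst h3
    ext z
    rw [hx, pt_zero, Rl.co_vx]

/-- Open stars are open. -/
lemma Rl.isOpen_star (w : W) : IsOpen {x : Rl G | 0 < x.co w} :=
  isOpen_lt continuous_const (Rl.continuous_co w)

/-- The path along an edge. -/
lemma Rl.joined_of_adj {u w : W} (h : G.Adj u w) : Joined (Rl.vx G u) (Rl.vx G w) := by
  refine ⟨⟨⟨fun t => Rl.mk u w (Or.inr h) t t.2.1 t.2.2, ?_⟩, ?_, ?_⟩⟩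
  · refine Rl.continuous_iff.2 fun v => ?_
    simp only [Rl.co_mk]
    exact (continuous_apply v).comp ((continuous_pt u w).comp continuous_subtype_val)
  · ext v
    simp [Rl.co_mk, Rl.co_vx, pt_zero]
  · ext v
    simp [Rl.co_mk, Rl.co_vx, pt_one]

/-- Every point is joined to a vertex in its support. -/
lemma Rl.joined_vx (x : Rl G) {w : W} (hw : 0 < x.co w) : Joined (Rl.vx G w) x := by
  obtain ⟨u, hu, t, h0, h1, -, hx⟩ := x.rep_of_pos hw
  refine ⟨⟨⟨fun s => Rl.mk w u hu (s * t) (mul_nonneg s.2.1 h0)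
    (mul_le_one₀ s.2.2 h0 h1.le), ?_⟩, ?_, ?_⟩⟩
  · refine Rl.continuous_iff.2 fun v => ?_
    simp only [Rl.co_mk]
    refine (continuous_apply v).comp ((continuous_pt w u).comp ?_)
    fun_prop
  · ext v
    simp [Rl.co_mk, Rl.co_vx, pt_zero]
  · ext v
    simp [Rl.co_mk, hx]

end Groth.Agent.An.H72.GraphReal
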