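import Mathlib.Topology.PartitionOfUnity
import Mathlib.Topology.Homotopy.Basic
import Mathlib.Topology.MetricSpace.Basic
import Mathlib.Topology.UnitInterval
import Mathlib.Topology.Metrizable.Uniformity

/-!
# Relative homotopy lifting for locally trivial maps, over compact metric parameter spaces
-/

set_option autoImplicit false
set_option linter.style.haveILetI false

open Set Topology unitInterval Filter

namespace Groth.Agent.An.H72.Lift

/-- Locally trivial maps. -/
def LocTriv {E B : Type} [TopologicalSpace E] [TopologicalSpace B] (p : E → B) : Prop :=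
  ∀ b, ∃ V : Set B, IsOpen V ∧ b ∈ V ∧ ∃ (F : Type) (_ : TopologicalSpace F)
    (e : ↥(p ⁻¹' V) ≃ₜ V × F), ∀ z, ((e z).1 : B) = p z

/-- Elementary moves: change the map downstairs inside one trivialization. -/
lemma elem {E B Z F : Type} [TopologicalSpace E] [TopologicalSpace B] [TopologicalSpace Z]
    [TopologicalSpace F] {p : E → B} {V : Set B}
    (e : ↥(p ⁻¹' V) ≃ₜ V × F) (he : ∀ z, ((e z).1 : B) = p z)
    {g g' : Z → B} (hg' : Continuous g') {N M : Set Z} (hN : IsOpen N)
    (hM : IsClosed M) (hMN : M ⊆ N) (hoff : ∀ z, z ∉ M → g z = g' z) (hgV : ∀ z ∈ N, g z ∈ V)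
    (hg'V : ∀ z ∈ N, g' z ∈ V) (a : Z → E) (ha : Continuous a) (hag : ∀ z, p (a z) = g z) :
    ∃ a' : Z → E, Continuous a' ∧ (∀ z, p (a' z) = g' z) ∧ ∀ z, g z = g' z → a' z = a z := by
  classical
  have haV : ∀ z ∈ N, a z ∈ p ⁻¹' V := fun z hz => by
    rw [Set.mem_preimage, hag]; exact hgV z hz
  let b : N → E := fun z => (e.symm (⟨g' z, hg'V z z.2⟩, (e ⟨a z, haV z z.2⟩).2)).1
  have hb : Continuous b := by
    refine continuous_subtype_val.comp (e.symm.continuous.comp ?_)
    refine Continuous.prodMk ?_ ?_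
    · exact (hg'.comp continuous_subtype_val).subtype_mk _
    · exact continuous_snd.comp (e.continuous.comp
        ((ha.comp continuous_subtype_val).subtype_mk _))
  have hbp : ∀ z : N, p (b z) = g' z := by
    intro z
    have h := he (e.symm (⟨g' z, hg'V z z.2⟩, (e ⟨a z, haV z z.2⟩).2))
    rw [e.apply_symm_apply] at h
    exact h.symm
  have hbe : ∀ z : N, g z = g' z → b z = a z := by
    intro z hz
    have h : (⟨g' z, hg'V z z.2⟩, (e ⟨a z, haV z z.2⟩).2) = e ⟨a z, haV z z.2⟩ := by
      refine Prod.ext (Subtype.ext ?_) rfl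
      rw [he]
      change g' z = p (a z)
      rw [hag, hz]
    change (e.symm _).1 = _
    rw [h, e.symm_apply_apply]
  let a' : Z → E := fun z => if h : z ∈ N then b ⟨z, h⟩ else a z
  have ha'N : ∀ z (h : z ∈ N), a' z = b ⟨z, h⟩ := fun z h => dif_pos h
  have ha'e : ∀ z, g z = g' z → a' z = a z := by
    intro z hz
    by_cases h : z ∈ N
    · rw [ha'N z h]; exact hbe ⟨z, h⟩ hz
    · exact dif_neg h
  refine ⟨a', ?_, ?_, ha'e⟩
  · rw [continuous_iff_continuousAt]
    intro z
    by_cases h : z ∈ N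
    · have h1 : ContinuousOn a' N := by
        rw [continuousOn_iff_continuous_domRestrict]
        convert hb using 1
        ext ⟨z, hz⟩
        exact ha'N z hz
      exact h1.continuousAt (hN.mem_nhds h)
    · have h1 : a' =ᶠ[𝓝 z] a := by
        filter_upwards [hM.isOpen_compl.mem_nhds (fun h' => h (hMN h'))] with y hy
        exact ha'e y (hoff y hy)
      exact ha.continuousAt.congr h1.symm
  · intro z
    by_cases h : z ∈ N
    · rw [ha'N z h]; exact hbp ⟨z, h⟩
    · have h0 : z ∉ M := fun h' => h (hMN h')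
      rw [ha'e z (hoff z h0), hag, hoff z h0]

/-- Lifting the end of a homotopy. -/
theorem LocTriv.end_lift {E B Z : Type} [TopologicalSpace E] [TopologicalSpace B]
    {p : E → B} (hp : LocTriv p) [MetricSpace Z] [CompactSpace Z]
    (G : ℝ × Z → B) (hG : Continuous G) (C : Set Z) (hC : ∀ z ∈ C, ∀ t, G (t, z) = G (0, z))
    (a : Z → E) (ha : Continuous a) (hag : ∀ z, p (a z) = G (0, z)) :
    ∃ a' : Z → E, Continuous a' ∧ (∀ z, p (a' z) = G (1, z)) ∧ ∀ z ∈ C, a' z = a z := by
  classical
  choose V hVo hV F iF e he using hp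
  have hK : IsCompact (Icc (0 : ℝ) 1 ×ˢ (univ : Set Z)) := isCompact_Icc.prod isCompact_univ
  obtain ⟨δ, hδ, hball⟩ := lebesgue_number_lemma_of_metric (c := fun b => G ⁻¹' V b) hK
    (fun b => (hVo b).preimage hG) (fun x _ => Set.mem_iUnion.2 ⟨G x, hV (G x)⟩)
  obtain ⟨m, hm⟩ := exists_nat_one_div_lt hδ
  have hmpos : (0 : ℝ) < (m : ℝ) + 1 := by positivity
  obtain ⟨T, -, hTfin, hT⟩ := finite_cover_balls_of_compact (isCompact_univ (X := Z)) hδ
  have : Finite T := hTfin
  have : Fintype T := Fintype.ofFinite T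
  obtain ⟨u, hu⟩ := PartitionOfUnity.exists_isSubordinate (isClosed_univ (X := Z))
    (fun t : T => Metric.ball (t : Z) δ) (fun t => Metric.isOpen_ball)
    (fun z hz => by
      obtain ⟨t, ht, hzt⟩ := Set.mem_iUnion₂.1 (hT hz)
      exact Set.mem_iUnion.2 ⟨⟨t, ht⟩, hzt⟩)
  have hsum : ∀ z, ∑ t, u t z = 1 := fun z => by
    rw [← finsum_eq_sum_of_fintype]; exact u.sum_eq_one (mem_univ z)
  have hsum0 : ∀ (J : Finset T) z, 0 ≤ ∑ t ∈ J, u t z := fun J z =>
    Finset.sum_nonneg fun t _ => u.nonneg t z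
  have hsum1 : ∀ (J : Finset T) z, ∑ t ∈ J, u t z ≤ 1 := fun J z => by
    rw [← hsum z]
    exact Finset.sum_le_sum_of_subset_of_nonneg (Finset.subset_univ _)
      fun t _ _ => u.nonneg t z
  have key : ∀ i : ℕ, i ≤ m + 1 → ∃ a' : Z → E, Continuous a' ∧
      (∀ z, p (a' z) = G ((i : ℝ) / ((m : ℝ) + 1), z)) ∧ ∀ z ∈ C, a' z = a z := by
    intro i
    induction i with
    | zero =>
      intro _
      exact ⟨a, ha, fun z => by simpa using hag z, fun _ _ => rfl⟩
    | succ i ih =>
      intro hi
      obtain ⟨a₁, ha₁, hag₁, haC₁⟩ := ih (by omega)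
      have inner : ∀ J : Finset T, ∃ a' : Z → E, Continuous a' ∧
          (∀ z, p (a' z) = G (((i : ℝ) + ∑ t ∈ J, u t z) / ((m : ℝ) + 1), z)) ∧
          ∀ z ∈ C, a' z = a z := by
        intro J
        induction J using Finset.induction_on with
        | empty => exact ⟨a₁, ha₁, fun z => by simpa using hag₁ z, haC₁⟩
        | insert j J hj ihJ =>
          obtain ⟨a₂, ha₂, hag₂, haC₂⟩ := ihJ
          have hx : ((i : ℝ) / ((m : ℝ) + 1), (j : Z)) ∈ Icc (0 : ℝ) 1 ×ˢ (univ : Set Z) := by
            refine ⟨⟨by positivity, ?_⟩, mem_univ _⟩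
            rw [div_le_one hmpos]
            have : i ≤ m + 1 := by omega
            exact_mod_cast this
          obtain ⟨b, hb⟩ := hball _ hx
          have hin : ∀ z ∈ Metric.ball (j : Z) δ, ∀ s : ℝ, 0 ≤ s → s ≤ 1 →
              G (((i : ℝ) + s) / ((m : ℝ) + 1), z) ∈ V b := by
            intro z hz s hs0 hs1
            refine hb ?_
            rw [Metric.mem_ball, Prod.dist_eq]
            refine max_lt ?_ hz
            rw [Real.dist_eq, ← sub_div, add_sub_cancel_left, abs_div, abs_of_nonneg hs0,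
              abs_of_pos hmpos]
            exact lt_of_le_of_lt (div_le_div_of_nonneg_right hs1 hmpos.le) hm
          obtain ⟨a₃, ha₃, hag₃, haC₃⟩ := elem (e b) (he b)
            (g := fun z => G (((i : ℝ) + ∑ t ∈ J, u t z) / ((m : ℝ) + 1), z))
            (g' := fun z => G (((i : ℝ) + ∑ t ∈ insert j J, u t z) / ((m : ℝ) + 1), z))
            (by
              refine hG.comp (Continuous.prodMk ?_ continuous_id)
              refine Continuous.div_const (continuous_const.add ?_) _
              exact continuous_finsetSum _ fun t _ => (u t).continuous)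
            (N := Metric.ball (j : Z) δ) (M := tsupport (u j))
            Metric.isOpen_ball (isClosed_tsupport _) (hu j)
            (by
              intro z hz
              have h0 : u j z = 0 := image_eq_zero_of_notMem_tsupport hz
              simp only [Finset.sum_insert hj, h0, zero_add])
            (fun z hz => hin z hz _ (hsum0 J z) (hsum1 J z))
            (fun z hz => hin z hz _ (hsum0 _ z) (hsum1 _ z)) a₂ ha₂ hag₂
          refine ⟨a₃, ha₃, hag₃, fun z hz => ?_⟩
          rw [haC₃ z (by simp only [hC z hz]), haC₂ z hz]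
      obtain ⟨a₄, ha₄, hag₄, haC₄⟩ := inner Finset.univ
      refine ⟨a₄, ha₄, fun z => ?_, haC₄⟩
      rw [hag₄ z, hsum z]
      push_cast
      rfl
  obtain ⟨a', h1, h2, h3⟩ := key (m + 1) le_rfl
  refine ⟨a', h1, fun z => ?_, h3⟩
  rw [h2 z]
  push_cast
  rw [div_self hmpos.ne']

/-- Relative homotopy lifting (with stationary points). -/
theorem LocTriv.exists_lift_rel {E B : Type} [TopologicalSpace E] [TopologicalSpace B]
    {p : E → B} (hp : LocTriv p) {K : Type} [MetricSpace K] [CompactSpace K]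
    (C : Set K) (a : C(K, E)) (G : C(I × K, B)) (hG0 : ∀ k, G (0, k) = p (a k))
    (hGC : ∀ k ∈ C, ∀ t, G (t, k) = p (a k)) :
    ∃ H : C(I × K, E), (∀ x, p (H x) = G x) ∧ (∀ k, H (0, k) = a k) ∧
      ∀ k ∈ C, ∀ t, H (t, k) = a k := by
  let G' : ℝ × (I × K) → B := fun x =>
    G (Set.projIcc 0 1 zero_le_one x.1 * x.2.1, x.2.2)
  have hG' : Continuous G' := by
    refine G.continuous.comp (Continuous.prodMk (Continuous.mul ?_ ?_) ?_)
    · exact continuous_projIcc.comp continuous_fst
    · exact continuous_fst.comp continuous_snd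
    · exact continuous_snd.comp continuous_snd
  have h0 : ∀ z : I × K, G' (0, z) = G (0, z.2) := by
    intro z
    have : (Set.projIcc (0 : ℝ) 1 zero_le_one 0 : I) = 0 := Set.projIcc_left _
    simp only [G', this, zero_mul]
  have h1 : ∀ z : I × K, G' (1, z) = G z := by
    intro z
    have : (Set.projIcc (0 : ℝ) 1 zero_le_one 1 : I) = 1 := Set.projIcc_right _
    simp only [G', this, one_mul]
  obtain ⟨a', h2, h3, h4⟩ := hp.end_lift G' hG' {z : I × K | z.1 = 0 ∨ z.2 ∈ C}
    (by
      rintro ⟨t, k⟩ (h | h) s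
      · simp only at h
        subst h
        rw [h0]
        simp only [G', mul_zero]
      · rw [h0]
        exact (hGC k h _).trans (hG0 k).symm)
    (fun z => a z.2) (a.continuous.comp continuous_snd)
    (fun z => by rw [h0, hG0])
  refine ⟨⟨a', h2⟩, fun x => ?_, fun k => ?_, fun k hk t => ?_⟩
  · exact (h3 x).trans (h1 x)
  · exact h4 (0, k) (Or.inl rfl)
  · exact h4 (t, k) (Or.inr hk)

end Groth.Agent.An.H72.Lift
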