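import Groth.Prelude.Def_AnFib
import Groth.Prelude.Def_AnPts
import Groth.Agent.S4227
import Groth.Agent.An.H898.Fibre
import Groth.Agent.An.H72.FibN

/-!
# The tower induction for good neighbourhoods (higher homotopy groups)
-/

set_option autoImplicit false
set_option linter.style.haveILetI false

open CategoryTheory AlgebraicGeometry Topology TopologicalSpace
open An

namespace Groth.Agent.An.H72.Tower

open HTriv Lift

/-- Complex points of a scheme isomorphic to the base. -/
lemma subsingleton_pts {X : Scheme.{0}} [X.Over An.SC] [IsIso (X ↘ An.SC)] :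
    Subsingleton (An.Pts X) := by
  refine ⟨fun x y => Subtype.ext ?_⟩
  have hx : x.1 = inv (X ↘ An.SC) := by
    rw [← cancel_mono (X ↘ An.SC), x.2, IsIso.inv_hom_id]
  have hy : y.1 = inv (X ↘ An.SC) := by
    rw [← cancel_mono (X ↘ An.SC), y.2, IsIso.inv_hom_id]
  rw [hx, hy]

lemma htriv_of_subsingleton {X : Type*} [TopologicalSpace X] [Subsingleton X] (n : ℕ) (x : X) :
    HTriv n X x := fun f _ => by
  have : f = ContinuousMap.const _ x := by ext; exact Subsingleton.elim _ _
  rw [this]
  exact ContinuousMap.HomotopicRel.refl _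

/-- Complex points of an elementary fibration form a locally trivial map. -/
theorem locTriv {X S : Scheme.{0}} [X.Over An.SC] [S.Over An.SC] [Smooth (S ↘ An.SC)]
    (f : X ⟶ S) [f.IsOver An.SC] (hf : An.IsElementaryFibration f) :
    LocTriv (An.Pts.map f) := by
  have hS : LocallyOfFiniteType (S ↘ An.SC) := inferInstance
  have hfs : Smooth f := Groth.Agent.An.H898.Fibre.smooth hf
  have hX : LocallyOfFiniteType (X ↘ An.SC) := by
    rw [← comp_over f An.SC]; infer_instance
  intro s
  obtain ⟨U, hU, hs, e, he⟩ := Groth.Agent.S4227.result X S f hf s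
  exact ⟨U, hU, hs, _, _, e, he⟩

theorem tower
    (Hc : ∀ {X S : Scheme.{0}} [X.Over An.SC] [S.Over An.SC] (f : X ⟶ S) [f.IsOver An.SC],
      An.IsElementaryFibration f → ∀ (s : An.Pts S) (x : ↥(An.Pts.map f ⁻¹' {s})) (n : ℕ),
      2 ≤ n → HTriv n ↥(An.Pts.map f ⁻¹' {s}) x)
    {X S : Scheme.{0}} (h : X ⟶ S) (hh : An.IsGoodNeighbourhood h) :
    ∀ (e : S ⟶ An.SC) [IsIso e] [X.Over An.SC], (X ↘ An.SC) = h ≫ e →
      Smooth (X ↘ An.SC) ∧ ∀ (x : An.Pts X) (n : ℕ), 2 ≤ n → HTriv n (An.Pts X) x := by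
  induction hh with
  | @zero X S g _ =>
    intro e _ _ he
    have h1 : IsIso (X ↘ An.SC) := by rw [he]; infer_instance
    have h2 := subsingleton_pts (X := X)
    exact ⟨inferInstance, fun x n _ => htriv_of_subsingleton n x⟩
  | @step X Y S f g hf hg ih =>
    intro e _ _ he
    let _ : Y.Over An.SC := ⟨g ≫ e⟩
    have hfO : f.IsOver An.SC := ⟨by
      change f ≫ g ≫ e = _
      rw [he, Category.assoc]⟩
    obtain ⟨hYs, hY⟩ := ih e rfl
    have hfs : Smooth f := Groth.Agent.An.H898.Fibre.smooth hf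
    refine ⟨?_, fun x n hn => ?_⟩
    · rw [← comp_over f An.SC]; infer_instance
    · exact FibN.htriv (An.Pts.continuous_map f) (locTriv f hf) n x (hY _ n hn)
        (Hc f hf _ _ n hn)

end Groth.Agent.An.H72.Tower
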